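import Cfsg.Agent.Lib.Block.SixteenNineMain
import Cfsg.Agent.Lib.Block.InflateRank
import Cfsg.Agent.Lib.Block.PrincipalSums
import Cfsg.Agent.Lib.Block.AbelianSections
import Cfsg.Agent.Lib.Block.RationalExtension
import Cfsg.Agent.Lib.Block.PrincipalFree
import Cfsg.Agent.Lib.Block.CyclicPrimeApps
import Cfsg.Agent.S4639
import Cfsg.Agent.S4571

/-!
# Invariance and counting lemmas for principal two-blocks with abelian Sylow subgroups

Isomorphisms, quotients by odd normal subgroups, one orbit on the moving part of the Sylow subgroup.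
-/

set_option autoImplicit false
set_option linter.unusedSectionVars false
set_option linter.style.haveILetI false
set_option maxHeartbeats 800000

namespace Cfsg.Lib.Block.PrimeInertia

open Cfsg Cfsg.Lib Cfsg.Lib.Block Subgroup

universe u

section Transport

variable {p : ℕ} [Fact p.Prime] {M : Ideal AlgInt}

theorem pullSet_principal {A B : Type u} [Group A] [Group B] [Fintype A] [Fintype B] (e : A ≃* B) :
    pullSet e (principalBlock M B) = principalBlock M A := by
  ext χ
  constructor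
  · intro h
    have h1 := compIrr_mem_principal (M := M) e (show compIrr e.symm χ ∈ principalBlock M B from h)
    rwa [compIrr_compIrr_symm] at h1
  · intro h
    exact compIrr_mem_principal (M := M) e.symm h

theorem blockRank_principal_equiv {A B : Type u} [Group A] [Group B] [Fintype A] [Fintype B]
    (e : A ≃* B) :
    blockRank p (principalBlock M A) = blockRank p (principalBlock M B) := by
  rw [← pullSet_principal e, blockRank_pullSet]

theorem card_principal_equiv {A B : Type u} [Group A] [Group B] [Fintype A] [Fintype B]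
    (e : A ≃* B) :
    Nat.card (principalBlock M A) = Nat.card (principalBlock M B) :=
  (Nat.card_congr (Equiv.subtypeEquiv (irrEquiv e) fun χ => by
    rw [← pullSet_principal (M := M) e]
    exact mem_pullSet.symm)).symm

/-- The principal block and its regular rank modulo a normal subgroup of order prime to `p`. -/
theorem principal_quotient {G : Type u} [Group G] [Fintype G] (hM : IsPModular p M) (K : Subgroup G)
    [K.Normal] [Fintype (G ⧸ K)] (hK : ¬ p ∣ Nat.card K) :
    Nat.card (principalBlock M (G ⧸ K)) = Nat.card (principalBlock M G) ∧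
      blockRank p (principalBlock M (G ⧸ K)) = blockRank p (principalBlock M G) := by
  classical
  haveI := Fintype.ofFinite K
  have hiff : ∀ ψ : IrrCharacter (G ⧸ K),
      infl K ψ ∈ principalBlock M G ↔ ψ ∈ principalBlock M (G ⧸ K) := by
    intro ψ
    rw [mem_principal_iff_regSum hM, mem_principal_iff_regSum hM]
    have e : ∑ g, pRegularPart p (infl K ψ : G → ℂ) g =
        (Nat.card K : ℂ) * ∑ q, pRegularPart p (ψ : G ⧸ K → ℂ) q := by
      rw [← Finset.sum_fiberwise Finset.univ (fun g : G => (g : G ⧸ K)), Finset.mul_sum]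
      refine Finset.sum_congr rfl fun q _ => ?_
      rw [Finset.sum_congr rfl (g := fun _ => pRegularPart p (ψ : G ⧸ K → ℂ) q) fun g hg => by
        have hq : (g : G ⧸ K) = q := (Finset.mem_filter.1 hg).2
        subst hq
        by_cases h : IsPRegular p g
        · rw [pRegularPart_of_reg h, pRegularPart_of_reg ((isPRegular_mk_iff K hK g).2 h), infl_coe,
            Function.comp_apply]
        · rw [pRegularPart_of_sing h,
            pRegularPart_of_sing (fun h' => h ((isPRegular_mk_iff K hK g).1 h'))],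
        Finset.sum_const, nsmul_eq_mul]
      congr 2
      induction q using QuotientGroup.induction_on with
      | H c =>
        rw [← Fintype.card_subtype, ← Nat.card_eq_fintype_card]
        refine Nat.card_congr (Equiv.symm
          { toFun := fun n => ⟨c * n, by simp [QuotientGroup.eq]⟩
            invFun := fun g => ⟨c⁻¹ * g.1, by
              have := g.2
              rw [eq_comm, QuotientGroup.eq] at this
              exact this⟩
            left_inv := fun n => Subtype.ext (inv_mul_cancel_left _ _)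
            right_inv := fun g => Subtype.ext (mul_inv_cancel_left _ _) })
    rw [e]
    refine ⟨fun h h0 => h (by rw [h0, mul_zero]), fun h => mul_ne_zero ?_ h⟩
    exact_mod_cast Nat.card_pos.ne'
  have hsurj : ∀ χ ∈ principalBlock M G, ∃ ψ ∈ principalBlock M (G ⧸ K), infl K ψ = χ := by
    intro χ hχ
    have htriv := trivial_of_sameBlock K hM hK
      (sameBlock_of_mem hM isPBlock_principal (trivChar_mem_principal hM) hχ)
      (fun n _ => by rw [trivChar_coe])
    have he : infl K ((Char.irrQuotientEquiv K).symm ⟨χ, htriv⟩) = χ :=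
      congrArg Subtype.val ((Char.irrQuotientEquiv K).apply_symm_apply ⟨χ, htriv⟩)
    exact ⟨_, (hiff _).1 (by rw [he]; exact hχ), he⟩
  constructor
  · refine Nat.card_congr (Equiv.ofBijective (fun ψ => ⟨infl K ψ.1, (hiff _).2 ψ.2⟩) ⟨?_, ?_⟩)
    · exact fun a b h => Subtype.ext (infl_injective K (congrArg Subtype.val h))
    · rintro ⟨χ, hχ⟩
      obtain ⟨ψ, hψ, rfl⟩ := hsurj χ hχ
      exact ⟨⟨ψ, hψ⟩, rfl⟩
  · let L : (G ⧸ K → ℂ) →ₗ[ℂ] (G → ℂ) := LinearMap.funLeft ℂ ℂ (QuotientGroup.mk : G → G ⧸ K)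
    have hinj : Function.Injective L :=
      LinearMap.funLeft_injective_of_surjective ℂ ℂ _ QuotientGroup.mk_surjective
    have hL : ∀ ψ : IrrCharacter (G ⧸ K),
        L (pRegularPart p (ψ : G ⧸ K → ℂ)) = pRegularPart p (infl K ψ : G → ℂ) := fun ψ => funext fun g => by
      show pRegularPart p (ψ : G ⧸ K → ℂ) (g : G ⧸ K) = _
      by_cases h : IsPRegular p g
      · rw [pRegularPart_of_reg h, pRegularPart_of_reg ((isPRegular_mk_iff K hK g).2 h), infl_coe,
          Function.comp_apply]
      · rw [pRegularPart_of_sing h,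
          pRegularPart_of_sing (fun h' => h ((isPRegular_mk_iff K hK g).1 h'))]
    have himg : (fun χ : IrrCharacter G => pRegularPart p (χ : G → ℂ)) '' principalBlock M G =
        L '' ((fun χ : IrrCharacter (G ⧸ K) => pRegularPart p (χ : G ⧸ K → ℂ)) ''
          principalBlock M (G ⧸ K)) := by
      ext f
      constructor
      · rintro ⟨χ, hχ, rfl⟩
        obtain ⟨ψ, hψ, rfl⟩ := hsurj χ hχ
        exact ⟨_, ⟨ψ, hψ, rfl⟩, hL ψ⟩
      · rintro ⟨_, ⟨ψ, hψ, rfl⟩, rfl⟩
        exact ⟨_, (hiff ψ).2 hψ, (hL ψ).symm⟩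
    rw [blockRank, blockRank, himg, ← Submodule.map_span]
    exact (Submodule.equivMapOfInjective L hinj _).finrank_eq

end Transport

section Local

variable {G : Type u} [Group G] [Fintype G] {M : Ideal AlgInt}

noncomputable local instance (priority := high) fintypeSubgroupPrimeInertia {A : Type u}
    [Group A] [Fintype A] (B : Subgroup A) : Fintype B := Fintype.ofFinite B

/-- A centralizer in which only `C(P)` normalizes `P` has principal block of rank one. -/
theorem rank_one_of_normalizer (hM : IsPModular 2 M) (P : Sylow 2 G)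
    [IsMulCommutative (P : Subgroup G)] {u : G} (hu : u ∈ (P : Subgroup G))
    (hC : centralizer ({u} : Set G) ⊓ normalizer ((P : Subgroup G) : Set G) ≤
      centralizer ((P : Subgroup G) : Set G)) :
    blockRank 2 (principalBlock M (centralizer ({u} : Set G))) = 1 := by
  haveI : Fact (Nat.Prime 2) := ⟨Nat.prime_two⟩
  have hle : (P : Subgroup G) ≤ centralizer ({u} : Set G) := sylow_le_centralizer_singleton P hu
  refine (hasNormalPComplement_iff_rank_one hM).1
    (Fusion.hasNormalPComplement_of_normalizer_le_centralizer (P.subtype hle) ?_)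
  intro g hg
  rw [Sylow.coe_subtype] at hg ⊢
  have hgN : (g : G) ∈ normalizer ((P : Subgroup G) : Set G) := by
    refine mem_normalizer_iff.2 fun x => ⟨fun hx => ?_, fun hx => ?_⟩
    · exact (mem_normalizer_iff.1 hg ⟨x, hle hx⟩).1 hx
    · have hxC : x ∈ centralizer ({u} : Set G) := by
        have h := mul_mem (mul_mem (inv_mem g.2) (hle hx)) g.2
        simpa [mul_assoc] using h
      exact (mem_normalizer_iff.1 hg ⟨x, hxC⟩).2 hx
  exact mem_centralizer_iff.2 fun x hx =>
    Subtype.ext (mem_centralizer_iff.1 (hC ⟨g.2, hgN⟩) (x : G) hx)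

/-- Prime index: everything is a power modulo the centralizer. -/
theorem exists_zpow_of_prime {C N : Subgroup G} (hn : N ≤ normalizer (C : Set G))
    (hp : (C.relIndex N).Prime) {g x : G} (hg : g ∈ N) (hgC : g ∉ C) (hx : x ∈ N) :
    ∃ i : ℤ, (g ^ i)⁻¹ * x ∈ C := by
  haveI : (C.subgroupOf N).Normal := normal_subgroupOf_of_le_normalizer hn
  haveI : Fact (C.subgroupOf N).index.Prime := ⟨hp⟩
  have h1 : ((⟨g, hg⟩ : N) : N ⧸ C.subgroupOf N) ≠ 1 := fun h =>
    hgC (mem_subgroupOf.1 ((QuotientGroup.eq_one_iff _).1 h))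
  have hcard : Nat.card (N ⧸ C.subgroupOf N) = (C.subgroupOf N).index :=
    (Subgroup.index_eq_card _).symm
  have h2 := mem_zpowers_of_prime_card (p := (C.subgroupOf N).index) hcard h1
    (g' := ((⟨x, hx⟩ : N) : N ⧸ C.subgroupOf N))
  obtain ⟨i, hi⟩ := mem_zpowers_iff.1 h2
  refine ⟨i, ?_⟩
  rw [← QuotientGroup.mk_zpow, QuotientGroup.eq, mem_subgroupOf] at hi
  simpa using hi

theorem normalizer_le_normalizer_centralizer (H : Subgroup G) :
    normalizer (H : Set G) ≤ normalizer (centralizer (H : Set G) : Set G) := by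
  intro g hg
  refine mem_normalizer_iff.2 fun x => ?_
  have key : ∀ g ∈ normalizer (H : Set G), ∀ x ∈ centralizer (H : Set G),
      g * x * g⁻¹ ∈ centralizer (H : Set G) := by
    intro g hg x hx
    refine mem_centralizer_iff.2 fun h hh => ?_
    have hh' : g⁻¹ * h * g ∈ H := by
      have := (mem_normalizer_iff.1 (inv_mem hg) h).1 hh
      rwa [inv_inv] at this
    calc h * (g * x * g⁻¹) = g * (g⁻¹ * h * g * x) * g⁻¹ := by group
      _ = g * (x * (g⁻¹ * h * g)) * g⁻¹ := by rw [mem_centralizer_iff.1 hx _ hh']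
      _ = g * x * g⁻¹ * h := by group
  refine ⟨key g hg x, fun h => ?_⟩
  have := key g⁻¹ (inv_mem hg) _ h
  simpa [mul_assoc] using this

/-- Free action of a prime order automizer: the rank is at most the index, equal to it up to three. -/
theorem rank_free (hM : IsPModular 2 M) (P : Sylow 2 G) [IsMulCommutative (P : Subgroup G)]
    (hP : (P : Subgroup G) ≠ ⊥) {e : ℕ}
    (he : (centralizer ((P : Subgroup G) : Set G)).relIndex
      (normalizer ((P : Subgroup G) : Set G)) = e) (hp : e.Prime)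
    (hfree : ∀ w ∈ (P : Subgroup G), w ≠ 1 → ∀ n ∈ normalizer ((P : Subgroup G) : Set G),
      n * w * n⁻¹ = w → n ∈ centralizer ((P : Subgroup G) : Set G)) :
    blockRank 2 (principalBlock M G) ≤ e ∧ (e ≤ 3 → blockRank 2 (principalBlock M G) = e) := by
  haveI : Fact (Nat.Prime 2) := ⟨Nat.prime_two⟩
  set C := centralizer ((P : Subgroup G) : Set G)
  set N := normalizer ((P : Subgroup G) : Set G)
  have hB : IsPBlock M (principalBlock M G) := isPBlock_principal
  have hab : ∀ x ∈ (P : Subgroup G), ∀ y ∈ (P : Subgroup G), x * y = y * x := fun x hx y hy =>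
    congrArg Subtype.val (mul_comm' (⟨x, hx⟩ : (P : Subgroup G)) ⟨y, hy⟩)
  have hc : IsInducedBlock M C (principalBlock M C) (principalBlock M G) :=
    isInducedBlock_of_isBrauerPairOf hM (sylow_le_centralizer P)
      ((isBrauerPairOf_principal_iff hM P.2 isPBlock_principal).2 rfl)
  have hT : ∀ g : G, g ∈ N ↔ g ∈ N ∧ StabilizesBlock C (principalBlock M C) g := fun g =>
    ⟨fun h => ⟨h, stabilizes_principal hM P.2 h⟩, fun h => h.1⟩
  have hn := normalizer_le_normalizer_centralizer (P : Subgroup G)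
  have hcomm : ∀ g ∈ N, ∀ h ∈ N, g * h * g⁻¹ * h⁻¹ ∈ C := by
    haveI : (C.subgroupOf N).Normal := normal_subgroupOf_of_le_normalizer hn
    have hcard : Nat.card (N ⧸ C.subgroupOf N) = e := (Subgroup.index_eq_card _).symm.trans he
    haveI : Fact e.Prime := ⟨hp⟩
    haveI : IsCyclic (N ⧸ C.subgroupOf N) := isCyclic_of_prime_card hcard
    intro g hg h hh
    have hq : ((⟨g, hg⟩ * ⟨h, hh⟩ * ⟨g, hg⟩⁻¹ * ⟨h, hh⟩⁻¹ : N) : N ⧸ C.subgroupOf N) = 1 := by
      rw [QuotientGroup.mk_mul, QuotientGroup.mk_mul, QuotientGroup.mk_mul, QuotientGroup.mk_inv,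
        QuotientGroup.mk_inv, mul_inv_eq_one, mul_inv_eq_iff_eq_mul]
      exact mul_comm' _ _
    exact mem_subgroupOf.1 ((QuotientGroup.eq_one_iff _).1 hq)
  obtain ⟨-, h2, -, h4⟩ := Cfsg.Agent.S4639.result 2 M hM _ hB (P : Subgroup G)
    (isDefectGroup_principal_sylow hM P) hP hab _ hc N hT e he hcomm
    (fun g hg x hx hx1 hfix => hfree x hx hx1 g hg hfix)
  exact ⟨h2, fun h => (h4 h).2⟩

/-- A central subgroup of the Sylow subgroup with one orbit on a complement. -/
structure Orbit (P : Sylow 2 G) (Z Q : Subgroup G) : Prop where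
  comm : IsMulCommutative (P : Subgroup G)
  central : Z ≤ center G
  zle : Z ≤ (P : Subgroup G)
  qle : Q ≤ (P : Subgroup G)
  disj : Z ⊓ Q = ⊥
  cover : (P : Subgroup G) ≤ Z ⊔ Q
  inv : ∀ n ∈ normalizer ((P : Subgroup G) : Set G), ∀ w ∈ Q, n * w * n⁻¹ ∈ Q
  trans : ∀ v ∈ Q, v ≠ 1 → ∀ w ∈ Q, w ≠ 1 →
    ∃ n ∈ normalizer ((P : Subgroup G) : Set G), n * v * n⁻¹ = w
  free : ∀ w ∈ Q, w ≠ 1 → ∀ n ∈ normalizer ((P : Subgroup G) : Set G),
    n * w * n⁻¹ = w → n ∈ centralizer ((P : Subgroup G) : Set G)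
  ne : Q ≠ ⊥

variable {P : Sylow 2 G} {Z Q : Subgroup G}

theorem Orbit.decomp (h : Orbit P Z Q) {x : G} (hx : x ∈ (P : Subgroup G)) :
    ∃ z ∈ Z, ∃ w ∈ Q, z * w = x := by
  haveI : Z.Normal := ⟨fun a ha b => by
    rw [mem_center_iff.1 (h.central ha) b, mul_inv_cancel_right]; exact ha⟩
  obtain ⟨z, hz, w, hw, e⟩ := mem_sup_of_normal_left.1 (h.cover hx)
  exact ⟨z, hz, w, hw, e⟩

theorem Orbit.conj_center (h : Orbit P Z Q) {z : G} (hz : z ∈ Z) (g : G) : g * z * g⁻¹ = z := by
  rw [mem_center_iff.1 (h.central hz) g, mul_inv_cancel_right]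

/-- The index is the size of the orbit. -/
theorem Orbit.relIndex_eq (h : Orbit P Z Q) :
    (centralizer ((P : Subgroup G) : Set G)).relIndex (normalizer ((P : Subgroup G) : Set G)) =
      Nat.card Q - 1 := by
  classical
  obtain ⟨v, hv, hv1⟩ := (bot_or_exists_ne_one Q).resolve_left h.ne
  set C := centralizer ((P : Subgroup G) : Set G)
  set N := normalizer ((P : Subgroup G) : Set G)
  let f : N ⧸ C.subgroupOf N → {w : Q // w ≠ 1} := Quotient.lift
    (fun n : N => ⟨⟨(n : G) * v * (n : G)⁻¹, h.inv n n.2 v hv⟩, fun e =>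
      hv1 (conj_eq_one_iff.1 (congrArg Subtype.val e))⟩) fun a b hab => by
    have hc : (a : G)⁻¹ * b ∈ C := mem_subgroupOf.1 (QuotientGroup.leftRel_apply.1 hab)
    have h1 := mem_centralizer_iff.1 hc v (h.qle hv)
    refine Subtype.ext (Subtype.ext ?_)
    show (a : G) * v * (a : G)⁻¹ = b * v * (b : G)⁻¹
    calc (a : G) * v * (a : G)⁻¹ = a * (v * ((a : G)⁻¹ * b)) * (b : G)⁻¹ := by group
      _ = a * ((a : G)⁻¹ * b * v) * (b : G)⁻¹ := by rw [h1]
      _ = b * v * (b : G)⁻¹ := by group
  have hf : Function.Bijective f := by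
    refine ⟨?_, fun w => ?_⟩
    · intro a b hab
      induction a using QuotientGroup.induction_on with
      | H a =>
        induction b using QuotientGroup.induction_on with
        | H b =>
          have e : (a : G) * v * (a : G)⁻¹ = b * v * (b : G)⁻¹ :=
            congrArg (fun w : {w : Q // w ≠ 1} => ((w : Q) : G)) hab
          refine QuotientGroup.eq.2 (mem_subgroupOf.2 (h.free v hv hv1 _ (a⁻¹ * b).2 ?_))
          show (a : G)⁻¹ * b * v * ((a : G)⁻¹ * b)⁻¹ = v
          calc (a : G)⁻¹ * b * v * ((a : G)⁻¹ * b)⁻¹ = (a : G)⁻¹ * (b * v * (b : G)⁻¹) * a := by group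
            _ = v := by rw [← e]; group
    · obtain ⟨n, hn, e⟩ := h.trans v hv hv1 _ w.1.2 fun e => w.2 (Subtype.ext e)
      exact ⟨((⟨n, hn⟩ : N) : N ⧸ C.subgroupOf N), Subtype.ext (Subtype.ext e)⟩
  rw [relIndex, Subgroup.index_eq_card, Nat.card_eq_of_bijective f hf, Nat.card_eq_fintype_card,
    Fintype.card_subtype_compl, Fintype.card_subtype_eq, ← Nat.card_eq_fintype_card]

/-- The number of characters of the principal block. -/
theorem Orbit.card_principal (h : Orbit P Z Q) (hM : IsPModular 2 M) :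
    Nat.card (principalBlock M G) = Nat.card Z * (blockRank 2 (principalBlock M G) + 1) := by
  classical
  haveI : Fact (Nat.Prime 2) := ⟨Nat.prime_two⟩
  haveI := h.comm
  obtain ⟨v, hv, hv1⟩ := (bot_or_exists_ne_one Q).resolve_left h.ne
  have hvZ : v ∉ Z := fun hz => hv1 (mem_bot.1 (h.disj ▸ (⟨hz, hv⟩ : v ∈ Z ⊓ Q)))
  let A : Finset G := Finset.univ.filter (· ∈ Z)
  let B : Finset G := A.image (· * v)
  have hmemA : ∀ z, z ∈ A ↔ z ∈ Z := fun z => by simp [A]
  have hmemB : ∀ x, x ∈ B ↔ ∃ z ∈ Z, z * v = x := fun x => by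
    simp only [B, Finset.mem_image, hmemA]
  have hAP : ∀ z ∈ A, z ∈ (P : Subgroup G) := fun z hz => h.zle ((hmemA z).1 hz)
  have hBP : ∀ x ∈ B, x ∈ (P : Subgroup G) := fun x hx => by
    obtain ⟨z, hz, rfl⟩ := (hmemB x).1 hx
    exact mul_mem (h.zle hz) (h.qle hv)
  have hdisj : Disjoint A B := Finset.disjoint_left.2 fun x hxA hxB => by
    obtain ⟨z, hz, rfl⟩ := (hmemB x).1 hxB
    exact hvZ (by simpa using mul_mem (inv_mem hz) ((hmemA _).1 hxA))
  have huniq : ∀ x ∈ A ∪ B, ∀ y ∈ A ∪ B, IsConj x y → x = y := by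
    have hAA : ∀ x ∈ A, ∀ y, IsConj x y → x = y := fun x hx y hxy => by
      obtain ⟨g, hg⟩ := isConj_iff.1 hxy
      rwa [h.conj_center ((hmemA x).1 hx)] at hg
    intro x hx y hy hxy
    rcases Finset.mem_union.1 hx with hx | hx
    · exact hAA x hx y hxy
    rcases Finset.mem_union.1 hy with hy | hy
    · exact (hAA y hy x hxy.symm).symm
    obtain ⟨z, hz, rfl⟩ := (hmemB x).1 hx
    obtain ⟨z', hz', rfl⟩ := (hmemB y).1 hy
    obtain ⟨g, hg⟩ := isConj_iff.1 hxy
    obtain ⟨n, hn, e⟩ := Fusion.exists_normalizer_conj_of_abelian P (hBP _ hx) (g := g)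
      (hg.symm ▸ hBP _ hy)
    rw [hg, show n * (z * v) * n⁻¹ = (n * z * n⁻¹) * (n * v * n⁻¹) by group, h.conj_center hz] at e
    have h1 : z'⁻¹ * z = v * (n * v * n⁻¹)⁻¹ := by
      rw [eq_mul_inv_iff_mul_eq, mul_assoc, e, inv_mul_cancel_left]
    have h2 : z'⁻¹ * z ∈ Z ⊓ Q :=
      mem_inf.2 ⟨Z.mul_mem (Z.inv_mem hz') hz, h1 ▸ Q.mul_mem hv (Q.inv_mem (h.inv n hn v hv))⟩
    rw [h.disj, mem_bot, inv_mul_eq_one] at h2
    rw [h2]
  have hex : ∀ g : G, (∃ k : ℕ, orderOf g = 2 ^ k) → ∃ x, x ∈ A ∪ B ∧ IsConj g x := by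
    intro g hg
    obtain ⟨c, hc⟩ := exists_conj_mem_sylow hM P hg
    have hgc : IsConj g (c * g * c⁻¹) := isConj_iff.2 ⟨c, rfl⟩
    obtain ⟨z, hz, w, hw, e⟩ := h.decomp hc
    by_cases hw1 : w = 1
    · exact ⟨z, Finset.mem_union_left _ ((hmemA z).2 hz), by rwa [← e, hw1, mul_one] at hgc⟩
    obtain ⟨n, -, hnw⟩ := h.trans w hw hw1 v hv hv1
    refine ⟨z * v, Finset.mem_union_right _ ((hmemB _).2 ⟨z, hz, rfl⟩), hgc.trans ?_⟩
    refine isConj_iff.2 ⟨n, ?_⟩
    rw [← e, show n * (z * w) * n⁻¹ = (n * z * n⁻¹) * (n * w * n⁻¹) by group, h.conj_center hz, hnw]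
  have hXp : ∀ x ∈ A ∪ B, ∃ k : ℕ, orderOf x = 2 ^ k := fun x hx =>
    orderOf_sylow P ((Finset.mem_union.1 hx).elim (hAP x) (hBP x))
  have hA : ∀ z ∈ A, (∑ᶠ b ∈ {b : Set (IrrCharacter (centralizer ({z} : Set G))) |
      IsInducedBlock M (centralizer ({z} : Set G)) b (principalBlock M G)}, blockRank 2 b) =
      blockRank 2 (principalBlock M G) := by
    intro z hz
    rw [SixteenNine.sum_induced_eq hM (orderOf_sylow P (hAP z hz))]
    have htop : centralizer ({z} : Set G) = ⊤ := eq_top_iff.2 fun g _ =>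
      mem_centralizer_singleton_iff.2 (mem_center_iff.1 (h.central ((hmemA z).1 hz)) g)
    exact blockRank_principal_equiv ((MulEquiv.subgroupCongr htop).trans topEquiv)
  have hB : ∀ x ∈ B, (∑ᶠ b ∈ {b : Set (IrrCharacter (centralizer ({x} : Set G))) |
      IsInducedBlock M (centralizer ({x} : Set G)) b (principalBlock M G)}, blockRank 2 b) = 1 := by
    intro x hx
    rw [SixteenNine.sum_induced_eq hM (orderOf_sylow P (hBP x hx))]
    refine rank_one_of_normalizer hM P (hBP x hx) ?_
    rintro n ⟨hn, hnN⟩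
    obtain ⟨z, hz, rfl⟩ := (hmemB x).1 hx
    refine h.free v hv hv1 n hnN ?_
    have h1 : n * (z * v) = z * v * n := mem_centralizer_singleton_iff.1 hn
    have h2 : z * (n * v) = z * (v * n) := by
      rw [← mul_assoc, ← mem_center_iff.1 (h.central hz) n, mul_assoc n, h1, mul_assoc]
    rw [mul_left_cancel h2, mul_inv_cancel_right]
  have hZ : A.card = Nat.card Z := by
    simp [A, ← Fintype.card_subtype, Nat.card_eq_fintype_card]
  rw [card_block_eq_sum_rank hM isPBlock_principal (A ∪ B) hXp fun g hg => by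
    obtain ⟨x, hx, hgx⟩ := hex g hg
    exact ⟨x, ⟨hx, hgx⟩, fun y ⟨hy, hgy⟩ => huniq y hy x hx (hgy.symm.trans hgx)⟩,
    Finset.sum_union hdisj, Finset.sum_congr rfl hA, Finset.sum_congr rfl hB,
    Finset.sum_const, Finset.sum_const, smul_eq_mul, smul_eq_mul, mul_one,
    Finset.card_image_of_injective _ (mul_left_injective v), hZ, mul_add, mul_one]

end Local

end Cfsg.Lib.Block.PrimeInertia
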