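import Cfsg.Agent.Lib.Block.PrimeInertia.Structure
import Cfsg.Agent.Lib.SimpleAbTwo.Cases
import Cfsg.Agent.Lib.E8Cent.Auto

/-!
# The shape of a nonsolvable core-free group with automizer of prime order
-/

set_option autoImplicit false
set_option linter.unusedSectionVars false
set_option linter.style.haveILetI false
set_option maxHeartbeats 1000000

namespace Cfsg.Lib.Block.PrimeInertia

open Cfsg Cfsg.Lib Subgroup

universe u

theorem pow_mem_centralizer_of_prime {G : Type u} [Group G] {C N : Subgroup G}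
    (hn : N ≤ normalizer (C : Set G)) {n : G} (hnN : n ∈ N) :
    n ^ (C.relIndex N) ∈ C := by
  haveI : (C.subgroupOf N).Normal := normal_subgroupOf_of_le_normalizer hn
  have h := Subgroup.pow_index_mem (C.subgroupOf N) (⟨n, hnN⟩ : N)
  exact mem_subgroupOf.1 h

variable {G : Type u} [Group G] [Fintype G] (P : Sylow 2 G)
  (hab : IsMulCommutative (P : Subgroup G))
  (hp : ((centralizer ((P : Subgroup G) : Set G)).relIndex
      (normalizer ((P : Subgroup G) : Set G))).Prime)

theorem relIndex_odd :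
    IsMulCommutative (P : Subgroup G) → Odd ((centralizer ((P : Subgroup G) : Set G)).relIndex
      (normalizer ((P : Subgroup G) : Set G))) := by
  intro hab
  haveI : Fact (Nat.Prime 2) := ⟨Nat.prime_two⟩
  have hle : (P : Subgroup G) ≤ centralizer ((P : Subgroup G) : Set G) := fun x hx =>
    mem_centralizer_iff.2 fun y hy => comm_P hab hy hx
  rw [← Nat.not_even_iff_odd, even_iff_two_dvd]
  refine fun h => (P.subtype le_normalizer).not_dvd_index (h.trans ?_)
  rw [Sylow.coe_subtype]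
  exact relIndex_dvd_of_le_left _ hle

include hab hp in
/-- The shape, with one orbit. -/
theorem exists_shape (hO : oddCore G = ⊥) (hns : ¬ Group.IsSolvable G) :
    ∃ L : Subgroup G, Shape P L ∧ Orbit P (centralizer (L : Set G)) ((P : Subgroup G) ⊓ L) := by
  classical
  haveI : Fact (Nat.Prime 2) := ⟨Nat.prime_two⟩
  obtain ⟨L, hLn, hLs, hna⟩ := exists_simple_normal P hab hp hO hns
  haveI := hLn
  haveI := hLs
  set C := centralizer ((P : Subgroup G) : Set G) with hCdef
  set N := normalizer ((P : Subgroup G) : Set G) with hNdef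
  set Z := centralizer (L : Set G) with hZdef
  obtain ⟨S, hS⟩ := Local.exists_sylow_inf P L
  have hSc := comm_trace hab hS
  have hSmem : ∀ {y : L}, y ∈ (S : Subgroup L) ↔ (y : G) ∈ (P : Subgroup G) := fun {y} => by
    rw [hS, mem_subgroupOf]
  have hnsL : ¬ Group.IsSolvable L := fun h => hna ⟨⟨IsSimpleGroup.comm_iff_isSolvable.2 h⟩⟩
  have hLZ : center (L : Subgroup G) = ⊥ := by
    refine (IsSimpleGroup.eq_bot_or_eq_top_of_normal _ inferInstance).resolve_right fun h => hna ?_
    exact ⟨⟨fun a b => ((mem_center_iff.1 (h.ge (mem_top a))) b).symm⟩⟩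
  have hLO : pPrimeCore 2 L = ⊥ := by
    refine (IsSimpleGroup.eq_bot_or_eq_top_of_normal _ inferInstance).resolve_right fun h => hnsL ?_
    have h1 := Core.pPrimeCore_coprime 2 L
    rw [h, card_top] at h1
    exact Cfsg.Agent.S0205.result (Nat.coprime_two_right.1 h1)
  obtain ⟨x, hx, r, hr, hmove⟩ := exists_moving hna S hSc
  have hinvS : ∀ {y : L}, y ∈ normalizer ((S : Subgroup L) : Set L) →
      ∀ s ∈ (P : Subgroup G) ⊓ L, (y : G) * s * (y : G)⁻¹ ∈ (P : Subgroup G) := fun {y} hy s hs =>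
    hSmem.1 ((mem_normalizer_iff.1 hy ⟨s, hs.2⟩).1 (hSmem.2 hs.1))
  have hrQ : (r : G) ∈ (P : Subgroup G) ⊓ L := ⟨hSmem.1 hr, r.2⟩
  have hmove' : (x : G) * r * (x : G)⁻¹ ≠ r := fun h => hmove (Subtype.ext h)
  -- the centralizer of `L`
  have hfixZ := fix_of_commuting P hab hp (L := L) (K := Z)
    (fun l hl k hk => mem_centralizer_iff.1 hk l hl) x.2 (hinvS hx) hrQ hmove'
  have hZP : Z ≤ (P : Subgroup G) := by
    obtain ⟨T, hT⟩ := Local.exists_sylow_inf P Z
    haveI := comm_trace hab hT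
    obtain ⟨T', K, hK, hc⟩ := Fusion.hasNormalPComplement_of_normalizer_le_centralizer T fun z hz => by
      refine mem_centralizer_iff.2 fun y hy => Subtype.ext ?_
      have hyP : (y : G) ∈ (P : Subgroup G) := mem_subgroupOf.1 (hT.le hy)
      obtain ⟨c, -, hn, hag⟩ := exists_agree P hab (R := (P : Subgroup G) ⊓ Z) inf_le_left
        (x := (z : G)) fun s hs => mem_subgroupOf.1 (hT.le
          ((mem_normalizer_iff.1 hz ⟨s, hs.2⟩).1 (hT.ge (mem_subgroupOf.2 hs.1))))
      have h := (hag y ⟨hyP, y.2⟩).symm.trans (hfixZ _ hn y ⟨hyP, y.2⟩)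
      exact (mul_inv_eq_iff_eq_mul.1 h).symm
    have hco : (Nat.card K).Coprime 2 := by
      rw [← hc.index_eq_card]
      exact ((Nat.prime_two.coprime_iff_not_dvd).2 T'.not_dvd_index).symm
    have hK1 : K = ⊥ := by
      have h := (map_mono (Core.le_pPrimeCore' hK hco)).trans
        (Core.pPrimeCore_map_le_of_isSubnormal (H := Z) (Subgroup.Normal.isSubnormal inferInstance))
      rw [show pPrimeCore 2 G = ⊥ from hO, le_bot_iff,
        map_eq_bot_iff_of_injective _ Z.subtype_injective] at h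
      exact h
    subst hK1
    have h2 : IsPGroup 2 Z := by
      have := T'.2
      rw [isComplement'_bot_left.1 hc] at this
      exact this.of_equiv topEquiv
    exact (Core.le_pCore h2).trans (Core.pCore_le_sylow P)
  have hZc : Z ≤ center G := by
    have hPH : (P : Subgroup G) ≤ centralizer (Z : Set G) := fun y hy =>
      mem_centralizer_iff.2 fun z hz => comm_P hab (hZP hz) hy
    have hNH : N ≤ centralizer (Z : Set G) := fun n hn => mem_centralizer_iff.2 fun z hz =>
      (mul_inv_eq_iff_eq_mul.1 (hfixZ n hn z ⟨hZP hz, hz⟩)).symm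
    have htop : centralizer (Z : Set G) = ⊤ := by
      rw [eq_top_iff, ← Sylow.normalizer_sup_eq_top' P hPH]
      exact sup_le hNH le_rfl
    exact fun z hz => mem_center_iff.2 fun g =>
      (mem_centralizer_iff.1 (htop.ge (mem_top g)) z hz).symm
  have hdisj : Z ⊓ ((P : Subgroup G) ⊓ L) = ⊥ := by
    rw [eq_bot_iff]
    intro z hz
    have h : (⟨z, hz.2.2⟩ : L) ∈ center L :=
      mem_center_iff.2 fun l => Subtype.ext (mem_centralizer_iff.1 hz.1 l l.2)
    rw [hLZ, mem_bot] at h
    exact mem_bot.2 (congrArg Subtype.val h)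
  have hdec : ∀ y ∈ (P : Subgroup G), ∃ z ∈ Z, ∃ l ∈ (P : Subgroup G) ⊓ L, z * l = y := by
    intro y hy
    obtain ⟨k, hk⟩ := IsPGroup.iff_orderOf.1 P.2 ⟨y, hy⟩
    rw [Subgroup.orderOf_mk] at hk
    obtain ⟨j, -, hj⟩ := (Nat.dvd_prime_pow Nat.prime_two).1
      (hk ▸ orderOf_map_dvd (MulAut.conjNormal (H := L)) y)
    obtain ⟨l, hl⟩ := Cfsg.Agent.S4593.result hLZ hLO S hSc (MulAut.conjNormal y) ⟨j, hj⟩ fun s hs =>
      Subtype.ext (show y * s * y⁻¹ = (s : G) by
        rw [comm_P hab hy (hSmem.1 hs), mul_inv_cancel_right])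
    have hzZ : (l : G)⁻¹ * y ∈ Z := mem_centralizer_iff.2 fun m hm => by
      have h : y * m * y⁻¹ = (l : G) * m * (l : G)⁻¹ := congrArg Subtype.val (hl ⟨m, hm⟩)
      calc m * ((l : G)⁻¹ * y) = (l : G)⁻¹ * ((l : G) * m * (l : G)⁻¹) * y := by group
        _ = (l : G)⁻¹ * y * m := by rw [← h]; group
    refine ⟨_, hzZ, l, mem_inf.2 ⟨?_, l.2⟩, ?_⟩
    · have h1 := mul_mem hy (inv_mem (hZP hzZ))
      rwa [show y * ((l : G)⁻¹ * y)⁻¹ = (l : G) by group] at h1
    · rw [← mem_center_iff.1 (hZc hzZ) l, mul_inv_cancel_left]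
  have hCQ : ∀ g : G, (∀ w ∈ (P : Subgroup G) ⊓ L, g * w = w * g) → g ∈ C := fun g hg =>
    mem_centralizer_iff.2 fun y hy => by
      obtain ⟨z, hz, l, hl, rfl⟩ := hdec y hy
      rw [mul_assoc, ← hg l hl, ← mul_assoc, ← mem_center_iff.1 (hZc hz) g, mul_assoc]
  -- normalizing elements from `L`
  have hagree : ∀ {y : L}, y ∈ normalizer ((S : Subgroup L) : Set L) → ∃ n ∈ N,
      n ∈ L ⊔ C ∧ ∀ w ∈ (P : Subgroup G) ⊓ L, n * w * n⁻¹ = (y : G) * w * (y : G)⁻¹ := by
    intro y hy
    obtain ⟨c, hc, hn, hag⟩ := exists_agree P hab inf_le_left (hinvS hy)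
    refine ⟨_, hn, mul_mem (mem_sup_right (hCQ c fun w hw => ?_)) (mem_sup_left y.2), hag⟩
    have hw' : (y : G)⁻¹ * w * y ∈ (P : Subgroup G) ⊓ L := by
      refine mem_inf.2 ⟨?_, mul_mem (mul_mem (inv_mem y.2) (mem_inf.1 hw).2) y.2⟩
      have h1 := hinvS (inv_mem hy) w hw
      rwa [Subgroup.coe_inv, inv_inv] at h1
    have h := hc _ hw'
    rwa [show (y : G) * ((y : G)⁻¹ * w * y) * (y : G)⁻¹ = w by group] at h
  obtain ⟨n₀, hn₀, hn₀L, hag₀⟩ := hagree hx
  have hn₀C : n₀ ∉ C := not_mem_centralizer_of_moves hrQ.1 (by rw [hag₀ r hrQ]; exact hmove')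
  have hinv : ∀ n ∈ N, ∀ w ∈ (P : Subgroup G) ⊓ L, n * w * n⁻¹ ∈ (P : Subgroup G) ⊓ L :=
    fun n hn w hw => ⟨(mem_normalizer_iff.1 hn w).1 hw.1, hLn.conj_mem w hw.2 n⟩
  have hcover : L ⊔ C = ⊤ := by
    have hPM : (P : Subgroup G) ≤ L ⊔ Z := fun y hy => by
      obtain ⟨z, hz, l, hl, rfl⟩ := hdec y hy
      exact mul_mem (mem_sup_right hz) (mem_sup_left hl.2)
    rw [eq_top_iff, ← Sylow.normalizer_sup_eq_top' P hPM]
    refine sup_le (fun n hn => ?_) (sup_le le_sup_left fun z hz => mem_sup_right ?_)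
    · obtain ⟨i, hi⟩ := exists_zpow_of_prime (normalizer_le_normalizer_centralizer _) hp hn₀ hn₀C hn
      have h := mul_mem (zpow_mem hn₀L i) (mem_sup_right (S := L) hi)
      rwa [mul_inv_cancel_left] at h
    · exact mem_centralizer_iff.2 fun y _ => mem_center_iff.1 (hZc hz) y
  have hcardS : Nat.card (S : Subgroup L) = Nat.card ↥((P : Subgroup G) ⊓ L) := by
    rw [hS, ← inf_subgroupOf_right]
    exact Nat.card_congr (subgroupOfEquivOfLe inf_le_right).toEquiv
  have hodd := relIndex_odd P hab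
  -- from four elements to one orbit
  have htrans4 : Nat.card ↥((P : Subgroup G) ⊓ L) = 4 → ∀ v ∈ (P : Subgroup G) ⊓ L, v ≠ 1 →
      ∀ w ∈ (P : Subgroup G) ⊓ L, w ≠ 1 → ∃ n ∈ N, n * v * n⁻¹ = w := by
    intro h4
    set b : G := n₀ * r * n₀⁻¹ with hb
    set c : G := n₀ * b * n₀⁻¹ with hc
    have hbr : b ≠ r := by rw [hb, hag₀ r hrQ]; exact hmove'
    have hcb : c ≠ b := fun h => hbr (mul_left_cancel (mul_right_cancel (hc.symm.trans h)))
    have hcr : c ≠ r := by
      intro h
      obtain ⟨j, hj⟩ := hodd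
      have hpe := pow_mem_centralizer_of_prime (C := C) (normalizer_le_normalizer_centralizer _) hn₀
      rw [hj] at hpe
      have he : n₀ ^ (2 * j + 1) ∈ centralizer ({(r : G)} : Set G) :=
        mem_centralizer_singleton_iff.2 (mem_centralizer_iff.1 hpe r hrQ.1).symm
      have h2 : n₀ ^ 2 ∈ centralizer ({(r : G)} : Set G) := mem_centralizer_singleton_iff.2 (by
        rw [← mul_inv_eq_iff_eq_mul, pow_two]
        calc n₀ * n₀ * r * (n₀ * n₀)⁻¹ = n₀ * (n₀ * r * n₀⁻¹) * n₀⁻¹ := by group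
          _ = r := h)
      have h1 := mul_mem (inv_mem (pow_mem h2 j)) he
      rw [← pow_mul, pow_succ, inv_mul_cancel_left] at h1
      exact hbr (mul_inv_eq_iff_eq_mul.2 (mem_centralizer_singleton_iff.1 h1))
    have hr1 : (r : G) ≠ 1 := fun h => hmove' (by rw [h, mul_one, mul_inv_cancel])
    have hbQ : b ∈ (P : Subgroup G) ⊓ L := hinv n₀ hn₀ r hrQ
    have hcQ : c ∈ (P : Subgroup G) ⊓ L := hinv n₀ hn₀ b hbQ
    have hb1 : b ≠ 1 := fun h => hr1 (conj_eq_one_iff.1 h)
    have hc1 : c ≠ 1 := fun h => hb1 (conj_eq_one_iff.1 h)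
    have hreach : ∀ w ∈ (P : Subgroup G) ⊓ L, w ≠ 1 → ∃ n ∈ N, n * r * n⁻¹ = w := by
      intro w hw hw1
      by_cases h1 : w = r
      · exact ⟨1, one_mem _, by rw [h1, one_mul, inv_one, mul_one]⟩
      by_cases h2 : w = b
      · exact ⟨n₀, hn₀, h2.symm⟩
      by_cases h3 : w = c
      · exact ⟨n₀ * n₀, mul_mem hn₀ hn₀, by rw [h3, hc, hb]; group⟩
      exfalso
      let t : Finset ↥((P : Subgroup G) ⊓ L) := {1, ⟨r, hrQ⟩, ⟨b, hbQ⟩, ⟨c, hcQ⟩, ⟨w, hw⟩}
      have ht : t.card = 5 := by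
        simp only [t]
        rw [Finset.card_insert_of_notMem, Finset.card_insert_of_notMem,
          Finset.card_insert_of_notMem, Finset.card_pair]
        all_goals simp [Subtype.ext_iff, hr1.symm, hb1.symm, hc1.symm, Ne.symm hw1, hbr.symm,
          hcr.symm, hcb.symm, Ne.symm h1, Ne.symm h2, Ne.symm h3]
      have := Finset.card_le_univ t
      rw [← Nat.card_eq_fintype_card, h4, ht] at this
      omega
    intro v hv hv1 w hw hw1
    obtain ⟨n, hn, rfl⟩ := hreach v hv hv1
    obtain ⟨m, hm, rfl⟩ := hreach w hw hw1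
    exact ⟨m * n⁻¹, mul_mem hm (inv_mem hn), by group⟩
  have hkind : (Nat.card ↥((P : Subgroup G) ⊓ L) = 4 ∨
      ∃ (F : Type) (_ : Field F) (_ : Fintype F) (a : ℕ), Fintype.card F = 2 ^ a ∧
        Nat.card ↥((P : Subgroup G) ⊓ L) = 2 ^ a ∧
        Nonempty (L ≃* Matrix.ProjectiveSpecialLinearGroup (Fin 2) F)) ∧
      ∀ v ∈ (P : Subgroup G) ⊓ L, v ≠ 1 → ∀ w ∈ (P : Subgroup G) ⊓ L, w ≠ 1 →
        ∃ n ∈ N, n * v * n⁻¹ = w := by
    by_cases hsol : ∀ t : L, orderOf t = 2 → Group.IsSolvable ↥(centralizer ({t} : Set L))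
    · obtain ⟨F, i, j, hF, ⟨f⟩⟩ := SimpleAbTwo.goodPSL_of_solvable hna S hSc hsol
      rcases hF with ⟨a, -, hF⟩ | ⟨hF, hF5⟩
      · obtain ⟨-, hcard, ⟨y, hy, htr⟩, -⟩ := WalterBig.psl_two_torus hF f S
        refine ⟨Or.inr ⟨F, i, j, a, hF, hcardS ▸ hcard, ⟨f⟩⟩, fun v hv hv1 w hw hw1 => ?_⟩
        obtain ⟨k, hk⟩ := htr ⟨v, hv.2⟩ (hSmem.2 hv.1) (fun h => hv1 (congrArg Subtype.val h))
          ⟨w, hw.2⟩ (hSmem.2 hw.1) (fun h => hw1 (congrArg Subtype.val h))
        obtain ⟨n, hn, -, hag⟩ := hagree (pow_mem hy k)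
        exact ⟨n, hn, (hag v hv).trans (congrArg Subtype.val hk)⟩
      · suffices h4 : Nat.card ↥((P : Subgroup G) ⊓ L) = 4 from ⟨Or.inl h4, htrans4 h4⟩
        have hL := Nat.card_congr f.toEquiv
        have hcard := Cfsg.Lib.Linear.Two.card_PSL_two (F := F)
        rw [← hL] at hcard
        obtain ⟨k, hk⟩ := S.2.exists_card_eq
        have hprod := (S : Subgroup L).card_mul_index
        have hi := S.not_dvd_index
        generalize (S : Subgroup L).index = i₀ at hprod hi
        rw [← hcardS, hk]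
        rw [hk] at hprod
        obtain ⟨q, hq⟩ : ∃ q, q = Fintype.card F := ⟨_, rfl⟩
        rw [← hq] at hcard hF hF5
        have hg : Nat.gcd 2 (q - 1) = 2 := Nat.gcd_eq_left (by omega)
        rw [hg] at hcard
        obtain ⟨m, hm, hm2⟩ : ∃ m, q * (q ^ 2 - 1) = 8 * m ∧ ¬ 2 ∣ m := by
          rcases hF with h | h
          · obtain ⟨t, rfl⟩ : ∃ t, q = 8 * t + 3 := ⟨q / 8, by omega⟩
            refine ⟨(8 * t + 3) * (8 * t ^ 2 + 6 * t + 1), ?_, ?_⟩
            · rw [show (8 * t + 3) ^ 2 - 1 = 8 * (8 * t ^ 2 + 6 * t + 1) by ring_nf; omega]; ring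
            · exact fun hd => ((Nat.prime_two.dvd_mul).1 hd).elim (fun h => by omega) fun h => by omega
          · obtain ⟨t, rfl⟩ : ∃ t, q = 8 * t + 5 := ⟨q / 8, by omega⟩
            refine ⟨(8 * t + 5) * (8 * t ^ 2 + 10 * t + 3), ?_, ?_⟩
            · rw [show (8 * t + 5) ^ 2 - 1 = 8 * (8 * t ^ 2 + 10 * t + 3) by ring_nf; omega]; ring
            · exact fun hd => ((Nat.prime_two.dvd_mul).1 hd).elim (fun h => by omega) fun h => by omega
        have heq : 2 ^ k * i₀ = 2 ^ 2 * m := by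
          rw [hprod, show (2 : ℕ) ^ 2 = 4 from rfl]
          have := hcard.trans hm
          omega
        refine Nat.dvd_antisymm ?_ ?_
        · exact (Nat.Coprime.pow_left k (Nat.prime_two.coprime_iff_not_dvd.2 hm2)).dvd_of_dvd_mul_right
            (heq ▸ dvd_mul_right _ _)
        · exact (Nat.Coprime.pow_left 2 (Nat.prime_two.coprime_iff_not_dvd.2 hi)).dvd_of_dvd_mul_right
            (heq ▸ dvd_mul_right _ _)
    · exfalso
      push Not at hsol
      obtain ⟨t, ht, htns⟩ := hsol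
      obtain ⟨P', -, -, -, h21, -⟩ := CentMax.exists_setting hna S hSc ht htns
      obtain ⟨g, hg⟩ := MulAction.exists_smul_eq L P' S
      have hmap : (P' : Subgroup L).map (MulAut.conj g).toMonoidHom = (S : Subgroup L) := by
        rw [← hg, Sylow.coe_subgroup_smul]
        rfl
      have key : ∀ k : ℕ, k.Prime → k ∣ Nat.card (E8Cent.automizer P') →
          (centralizer ((P : Subgroup G) : Set G)).relIndex
            (normalizer ((P : Subgroup G) : Set G)) = k := by
        intro k hk hdvd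
        haveI := Fact.mk hk
        obtain ⟨a, ha⟩ := exists_prime_orderOf_dvd_card' (G := E8Cent.automizer P') k hdvd
        obtain ⟨z, hz, hza⟩ := (E8Cent.mem_automizer_iff P').1 a.2
        have hz' : MulAut.conj g z ∈ normalizer ((S : Subgroup L) : Set L) := by
          rw [← hmap, ← map_equiv_normalizer_eq]
          exact mem_map_of_mem (MulAut.conj g).toMonoidHom hz
        obtain ⟨n, hn, -, hag⟩ := hagree hz'
        have hpow : ∀ i : ℕ, ∀ w ∈ (P : Subgroup G) ⊓ L,
            n ^ i * w * (n ^ i)⁻¹ = ((MulAut.conj g z ^ i : L) : G) * w *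
              ((MulAut.conj g z ^ i : L) : G)⁻¹ := by
          intro i
          induction i with
          | zero => intro w hw; simp
          | succ i ih =>
            intro w hw
            have hn' : n * w * n⁻¹ ∈ (P : Subgroup G) ⊓ L := hinv n hn w hw
            have h1 := ih _ hn'
            rw [hag w hw] at h1
            rw [pow_succ, pow_succ, Subgroup.coe_mul]
            calc n ^ i * n * w * (n ^ i * n)⁻¹ = n ^ i * (n * w * n⁻¹) * (n ^ i)⁻¹ := by group
              _ = _ := by rw [hag w hw, h1]; group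
        have hapow : ∀ i : ℕ, ∀ s : (P' : Subgroup L),
            (((a : MulAut (P' : Subgroup L)) ^ i) s : L) = z ^ i * s * (z ^ i)⁻¹ := by
          intro i
          induction i with
          | zero => intro s; simp
          | succ i ih =>
            intro s
            rw [pow_succ', MulAut.mul_apply, hza, ih, pow_succ']
            group
        have hak : n ^ k ∈ C := hCQ _ fun w hw => by
          rw [← mul_inv_eq_iff_eq_mul, hpow k w hw]
          have hwS : (⟨w, hw.2⟩ : L) ∈ (S : Subgroup L) := hSmem.2 hw.1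
          obtain ⟨s, hs, he⟩ := hmap.ge hwS
          have h1 : z ^ k * s * (z ^ k)⁻¹ = s := by
            have := hapow k ⟨s, hs⟩
            rw [← ha, ← SubmonoidClass.coe_pow, pow_orderOf_eq_one] at this
            rw [← ha]
            exact this.symm
          have h2 := congrArg (MulAut.conj g) h1
          rw [map_mul, map_mul, map_inv, map_pow,
            show MulAut.conj g s = (⟨w, hw.2⟩ : L) from he] at h2
          exact congrArg Subtype.val h2
        have hnC : n ∉ C := by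
          intro hnC
          have ha1 : (a : MulAut (P' : Subgroup L)) = 1 := MulEquiv.ext fun s => Subtype.ext ?_
          · rw [show a = 1 from Subtype.ext ha1, orderOf_one] at ha
            exact hk.ne_one ha.symm
          rw [hza s, MulAut.one_apply]
          have hwS : MulAut.conj g (s : L) ∈ (S : Subgroup L) := hmap ▸ mem_map_of_mem _ s.2
          have h1 := hag _ ⟨hSmem.1 hwS, (MulAut.conj g (s : L)).2⟩
          rw [← mem_centralizer_iff.1 hnC _ (hSmem.1 hwS), mul_inv_cancel_right] at h1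
          apply (MulAut.conj g).injective
          rw [map_mul, map_mul, map_inv]
          exact (Subtype.ext h1).symm
        haveI : (C.subgroupOf N).Normal :=
          normal_subgroupOf_of_le_normalizer (normalizer_le_normalizer_centralizer _)
        let q : N ⧸ C.subgroupOf N := ((⟨n, hn⟩ : N) : N ⧸ C.subgroupOf N)
        have hq1 : q ≠ 1 := fun h => hnC (mem_subgroupOf.1 ((QuotientGroup.eq_one_iff _).1 h))
        have hqk : q ^ k = 1 := by
          rw [← QuotientGroup.mk_pow, QuotientGroup.eq_one_iff, mem_subgroupOf]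
          exact hak
        have hqe : orderOf q ∣ C.relIndex N := by
          rw [relIndex, Subgroup.index_eq_card]
          exact orderOf_dvd_natCard _
        rw [orderOf_eq_prime hqk hq1] at hqe
        exact ((Nat.prime_dvd_prime_iff_eq hk hp).1 hqe).symm
      have h7 := key 7 (by norm_num) (h21 ▸ by norm_num)
      have h3 := key 3 (by norm_num) (h21 ▸ by norm_num)
      omega
  obtain ⟨hk, htrans⟩ := hkind
  refine ⟨L, ⟨hLn, hLs, hna, hZc, hZP, hcover, hk⟩,
    ⟨hab, hZc, hZP, inf_le_left, hdisj, fun y hy => ?_, hinv, htrans, fun w hw hw1 n hn hfix => ?_,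
      fun h => ?_⟩⟩
  · obtain ⟨z, hz, l, hl, rfl⟩ := hdec y hy
    exact mul_mem_sup hz hl
  · by_contra hnC
    have hall := fun m (hm : m ∈ N) => fix_of_moves hp hn hnC hw.1 hfix hm
    have hr1 : (r : G) ≠ 1 := fun h => hmove' (by rw [h, mul_one, mul_inv_cancel])
    have hb := hinv n₀ hn₀ r hrQ
    obtain ⟨v, hv, hv1, hvw⟩ : ∃ v ∈ (P : Subgroup G) ⊓ L, v ≠ 1 ∧ v ≠ w := by
      by_cases h : (r : G) = w
      · exact ⟨_, hb, fun h1 => hr1 (conj_eq_one_iff.1 h1), fun h1 =>
          hmove' ((hag₀ r hrQ).symm.trans (h1.trans h.symm))⟩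
      · exact ⟨r, hrQ, hr1, h⟩
    obtain ⟨m, hm, he⟩ := htrans w hw hw1 v hv hv1
    exact hvw (he.symm.trans (hall m hm))
  · have := hrQ
    rw [h, mem_bot] at this
    exact hmove' (by rw [this, mul_one, mul_inv_cancel])

end Cfsg.Lib.Block.PrimeInertia
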