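import Cfsg.Agent.Lib.Block.KleinBlock
import Cfsg.Agent.Lib.Block.PrincipalColumns
import Cfsg.Agent.Lib.Block.PrincipalFree
import Cfsg.Agent.Lib.Block.Conj
import Cfsg.Agent.Lib.TwoDim.DegreeSets
import Cfsg.Agent.Lib.WalterBig.Torus

/-!
# The principal two-block of `PSL₂(2^a)` has at least `2^a` characters

Its values at an involution are at most one in absolute value.
-/

set_option autoImplicit false
set_option linter.unusedSectionVars false
set_option linter.style.haveILetI false
set_option maxHeartbeats 800000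

namespace Cfsg.Lib.Block.PrimeInertia

open Cfsg Cfsg.Lib Cfsg.Lib.Block Subgroup
open scoped ComplexConjugate MatrixGroups

universe u

/-- An integer congruent to `0` or `±1` modulo `q` with square below `q` has square at most one. -/
theorem sq_le_one_of_cong {q d ε m : ℤ} (hq : 4 ≤ q) (hε : -1 ≤ ε ∧ ε ≤ 1) (h : d - ε = q * m)
    (hd : d * d ≤ q - 1) : d * d ≤ 1 := by
  have h1 : -(q - 2) ≤ d ∧ d ≤ q - 2 := ⟨by nlinarith, by nlinarith⟩
  have h2 : m = 0 := by
    have h3 : -1 < m := by nlinarith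
    have h4 : m < 1 := by nlinarith
    omega
  subst h2
  have : d = ε := by linarith
  nlinarith

variable {L : Type u} [Group L] [Fintype L] {M : Ideal AlgInt}

noncomputable local instance (priority := high) fintypeSubgroupPSLTwo {A : Type u}
    [Group A] [Fintype A] (B : Subgroup A) : Fintype B := Fintype.ofFinite B

/-- At least `2^a` characters. -/
theorem card_le_principal (hM : IsPModular 2 M) {F : Type} [Field F] [Fintype F] {a : ℕ}
    (hF : Fintype.card F = 2 ^ a) (ha : 2 ≤ a)
    (f : L ≃* Matrix.ProjectiveSpecialLinearGroup (Fin 2) F) :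
    2 ^ a ≤ Nat.card (principalBlock M L) := by
  classical
  haveI : Fact (Nat.Prime 2) := ⟨Nat.prime_two⟩
  haveI : CharP F 2 := charP_of_card_eq_prime_pow hF
  let g : L ≃* SL(2, F) := f.trans Cfsg.Lib.Spec.pslEquivOfCharTwo
  obtain ⟨S⟩ : Nonempty (Sylow 2 L) := inferInstance
  obtain ⟨hsq, hcard, ⟨x, hx, htr⟩, -⟩ := WalterBig.psl_two_torus hF f S
  haveI : IsMulCommutative (S : Subgroup L) := ⟨⟨fun y z => by
    have h : ∀ t : (S : Subgroup L), t⁻¹ = t := fun t =>
      inv_eq_of_mul_eq_one_right (Subtype.ext (hsq t t.2))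
    calc y * z = (y * z)⁻¹ := (h _).symm
      _ = z⁻¹ * y⁻¹ := mul_inv_rev _ _
      _ = z * y := by rw [h, h]⟩⟩
  have h4 : 4 ≤ 2 ^ a := by
    calc 4 = 2 ^ 2 := by norm_num
      _ ≤ 2 ^ a := Nat.pow_le_pow_right two_pos ha
  have hcent : ∀ y ∈ (S : Subgroup L), y ≠ 1 → centralizer ({y} : Set L) = (S : Subgroup L) := by
    intro y hy hy1
    refine S.is_maximal' (fun z => ⟨1, Subtype.ext ?_⟩) (sylow_le_centralizer_singleton S hy)
    rw [SubgroupClass.coe_pow, Subgroup.coe_one, pow_one]
    apply g.injective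
    rw [map_pow, map_one]
    exact Cfsg.Lib.Invol.AC.sq_eq_one_of_commute (M := g y)
      (by rw [pow_two, ← map_mul, hsq y hy, map_one])
      (fun e => hy1 (g.injective (e.trans (map_one g).symm)))
      (by rw [← map_mul, ← map_mul, mem_centralizer_iff.1 z.2 y rfl])
  have hfree : FreeAction S := by
    intro y hy hy1
    rw [hcent y hy hy1]
    refine le_antisymm (inf_le_left.trans (sylow_le_centralizer S)) (le_inf ?_ (centralizer_le_normalizer _))
    exact le_trans (centralizer_le (Set.singleton_subset_iff.2 hy)) (hcent y hy hy1).le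
  obtain ⟨v, hv, hv1⟩ := (bot_or_exists_ne_one (S : Subgroup L)).resolve_left fun h => by
    rw [h, card_bot] at hcard; omega
  have hcol : ∑ χ ∈ (principalBlock M L).toFinset,
      (χ : L → ℂ) v * conj ((χ : L → ℂ) v) = ((2 ^ a : ℕ) : ℂ) := by
    have h := principal_column hM (u := v) (v := v) (orderOf_sylow S hv) (orderOf_sylow S hv)
    rw [if_pos (IsConj.refl v), principalDegSq_free hM hfree hv hv1, hcard,
      finsum_mem_eq_toFinset_sum] at h
    exact h
  have hord : orderOf v = 2 := orderOf_eq_prime (by rw [pow_two]; exact hsq v hv) hv1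
  choose d hd using fun χ : IrrCharacter L => int_value_involution χ hord
  have hsum : ∑ χ ∈ (principalBlock M L).toFinset, d χ * d χ = ((2 ^ a : ℕ) : ℤ) := by
    apply Int.cast_injective (α := ℂ)
    rw [Int.cast_natCast, ← hcol, Int.cast_sum]
    exact Finset.sum_congr rfl fun χ _ => by rw [hd χ, map_intCast, Int.cast_mul]
  have hone : d (trivChar L) = 1 := by
    have h := hd (trivChar L)
    rw [trivChar_coe] at h
    have h' : ((d (trivChar L) : ℤ) : ℂ) = 1 := h.symm
    exact_mod_cast h'
  have hbound : ∀ χ ∈ (principalBlock M L).toFinset, d χ * d χ ≤ 1 := by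
    intro χ hχ
    by_cases htriv : χ = trivChar L
    · rw [htriv, hone]; norm_num
    have hle : d χ * d χ ≤ ((2 ^ a : ℕ) : ℤ) - 1 := by
      have h := Finset.sum_le_sum_of_subset_of_nonneg (f := fun χ => d χ * d χ)
        (show ({χ, trivChar L} : Finset (IrrCharacter L)) ⊆ (principalBlock M L).toFinset from
          fun η hη => by
            rcases Finset.mem_insert.1 hη with rfl | h
            · exact hχ
            · rw [Finset.mem_singleton.1 h]; exact Set.mem_toFinset.2 (trivChar_mem_principal hM))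
        fun η _ _ => mul_self_nonneg _
      rw [Finset.sum_pair htriv, hsum, hone] at h
      linarith
    -- the sum over the Sylow subgroup
    obtain ⟨m, hm⟩ := (χ.2.isCharacter.comp (S : Subgroup L).subtype).exists_nat_classInner
      (Char.isCharacter_one (G := (S : Subgroup L)))
    have hs : ∑ s : (S : Subgroup L), (χ : L → ℂ) s = ((2 ^ a : ℕ) : ℂ) * m := by
      have h0 : classInner ((χ : L → ℂ) ∘ (S : Subgroup L).subtype) (fun _ => (1 : ℂ)) = (m : ℂ) := hm
      rw [← h0, ← hcard, classInner, ← mul_assoc, mul_inv_cancel₀ Char.card_cast_ne_zero, one_mul]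
      simp
    have hconst : ∀ s : (S : Subgroup L), s ≠ 1 → (χ : L → ℂ) s = (d χ : ℂ) := by
      intro s hs1
      obtain ⟨i, hi⟩ := htr v hv hv1 s s.2 fun e => hs1 (Subtype.ext e)
      rw [← hi, χ.2.isClassFunction, hd]
    rw [← Finset.add_sum_erase _ _ (Finset.mem_univ (1 : (S : Subgroup L))),
      Finset.sum_congr rfl fun s hs => hconst s (Finset.mem_erase.1 hs).1, Finset.sum_const,
      Finset.card_erase_of_mem (Finset.mem_univ _), Finset.card_univ, ← Nat.card_eq_fintype_card,
      hcard, nsmul_eq_mul, OneMemClass.coe_one] at hs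
    obtain ⟨n, hn, hcases⟩ : ∃ n : ℤ, (χ : L → ℂ) 1 = n ∧
        (n = 1 ∨ n = (2 ^ a : ℕ) ∨ n = (2 ^ a : ℕ) + 1 ∨ n = ((2 ^ a : ℕ) : ℤ) - 1) := by
      have h := TwoDim.sl_degree_cases (χ.2.comp_surjective g.symm.toMonoidHom g.symm.surjective)
      have heven : ¬ Odd (Fintype.card F) := by
        rw [hF, Nat.not_odd_iff_even]
        exact (Nat.even_pow' (by omega)).2 even_two
      have e : (χ : L → ℂ) (g.symm.toMonoidHom 1) = (χ : L → ℂ) 1 := by rw [map_one]
      rcases h with h | h | h | h | ⟨h, -⟩ | ⟨h, -⟩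
      · exact ⟨1, (e.symm.trans ((congrFun h 1).trans TwoDim.oneR_one)).trans (by simp), Or.inl rfl⟩
      · exact ⟨(2 ^ a : ℕ), (e.symm.trans ((congrFun h 1).trans TwoDim.stR_one)).trans (by simp [hF]),
          Or.inr (Or.inl rfl)⟩
      · exact ⟨(2 ^ a : ℕ) + 1, (e.symm.trans h).trans (by simp [hF]), Or.inr (Or.inr (Or.inl rfl))⟩
      · refine ⟨((2 ^ a : ℕ) : ℤ) - 1, (e.symm.trans h).trans ?_, Or.inr (Or.inr (Or.inr rfl))⟩
        rw [hF, Nat.cast_sub (by omega)]
        simp
      · exact absurd h heven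
      · exact absurd h heven
    have heq : n + (((2 ^ a : ℕ) : ℤ) - 1) * d χ = ((2 ^ a : ℕ) : ℤ) * m := by
      rw [hn, Nat.cast_sub (by omega)] at hs
      exact_mod_cast hs
    have hq : (4 : ℤ) ≤ ((2 ^ a : ℕ) : ℤ) := by exact_mod_cast h4
    rcases hcases with h | h | h | h <;> rw [h] at heq
    · exact sq_le_one_of_cong (ε := 1) (m := d χ - m) hq ⟨by norm_num, le_rfl⟩ (by linarith) hle
    · exact sq_le_one_of_cong (ε := 0) (m := d χ + 1 - m) hq ⟨by norm_num, by norm_num⟩ (by linarith) hle
    · exact sq_le_one_of_cong (ε := 1) (m := d χ + 1 - m) hq ⟨by norm_num, le_rfl⟩ (by linarith) hle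
    · exact sq_le_one_of_cong (ε := -1) (m := d χ + 1 - m) hq ⟨le_rfl, by norm_num⟩ (by linarith) hle
  have h := Finset.sum_le_sum hbound
  rw [hsum, Finset.sum_const, nsmul_eq_mul, mul_one] at h
  rw [Nat.card_eq_card_toFinset]
  exact_mod_cast h

end Cfsg.Lib.Block.PrimeInertia
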