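import Cfsg.Agent.Lib.Block.PrimeInertia.Basic
import Cfsg.Agent.Lib.AbTwo.Basic
import Cfsg.Agent.Lib.Sig.PConstrained
import Cfsg.Agent.S4626

/-!
# Passage to the quotient by the odd core, and the solvable case
-/

set_option autoImplicit false
set_option linter.unusedSectionVars false
set_option linter.style.haveILetI false
set_option maxHeartbeats 800000

namespace Cfsg.Lib.Block.PrimeInertia

open Cfsg Cfsg.Lib Cfsg.Lib.Block Subgroup

universe u

variable {G : Type u} [Group G] [Fintype G] {M : Ideal AlgInt}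

/-- The automizer is unchanged modulo a normal subgroup of odd order. -/
theorem relIndex_quotient (P : Sylow 2 G) (K : Subgroup G) [K.Normal] (hK : Odd (Nat.card K))
    (P' : Sylow 2 (G ⧸ K)) (hP' : (P' : Subgroup (G ⧸ K)) = (P : Subgroup G).map (QuotientGroup.mk' K)) :
    (centralizer ((P' : Subgroup (G ⧸ K)) : Set (G ⧸ K))).relIndex
      (normalizer ((P' : Subgroup (G ⧸ K)) : Set (G ⧸ K))) =
    (centralizer ((P : Subgroup G) : Set G)).relIndex (normalizer ((P : Subgroup G) : Set G)) := by
  haveI : Fact (Nat.Prime 2) := ⟨Nat.prime_two⟩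
  set f := QuotientGroup.mk' K with hf
  set C := centralizer ((P : Subgroup G) : Set G)
  set N := normalizer ((P : Subgroup G) : Set G)
  have hN : normalizer (((P : Subgroup G).map f : Subgroup (G ⧸ K)) : Set (G ⧸ K)) = N.map f := by
    refine le_antisymm (fun y hy => ?_) (le_normalizer_map f)
    obtain ⟨x, rfl⟩ := QuotientGroup.mk'_surjective K y
    set H := ((P : Subgroup G).map f).comap f with hH
    have hPH : (P : Subgroup G) ≤ H := le_comap_map f _
    have hxPH : ((x • P : Sylow 2 G) : Subgroup G) ≤ H := by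
      rw [Sylow.coe_subgroup_smul]
      rintro _ ⟨a, ha, rfl⟩
      show f (x * a * x⁻¹) ∈ (P : Subgroup G).map f
      rw [map_mul, map_mul, map_inv]
      exact (mem_normalizer_iff.1 hy (f a)).1 (mem_map_of_mem f ha)
    obtain ⟨h, hh⟩ := MulAction.exists_smul_eq H ((x • P).subtype hxPH) (P.subtype hPH)
    have h2 : (h : G) • (x • P) = P := by
      rw [Sylow.smul_subtype] at hh
      exact Sylow.subtype_injective hh
    rw [smul_smul] at h2
    have h3 : (h : G) * x ∈ N := Sylow.smul_eq_iff_mem_normalizer.1 h2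
    have h4 : f (h : G) ∈ N.map f := map_mono le_normalizer (show f (h : G) ∈ (P : Subgroup G).map f from h.2)
    have h5 := mul_mem (inv_mem h4) (mem_map_of_mem f h3)
    rwa [map_mul, inv_mul_cancel_left] at h5
  have hco : (Nat.card K).Coprime 2 := Nat.coprime_two_right.2 hK
  have hKN : ∀ k ∈ K, k ∈ N → k ∈ C := by
    intro k hk hkN
    refine mem_centralizer_iff.2 fun y hy => ?_
    have h1 : k * y * k⁻¹ * y⁻¹ ∈ (P : Subgroup G) ⊓ K := mem_inf.2
      ⟨mul_mem ((mem_normalizer_iff.1 hkN y).1 hy) (inv_mem hy), by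
        rw [show k * y * k⁻¹ * y⁻¹ = k * (y * k⁻¹ * y⁻¹) by group]
        exact mul_mem hk ((inferInstance : K.Normal).conj_mem _ (inv_mem hk) y)⟩
    have hbot : (P : Subgroup G) ⊓ K = ⊥ := by
      refine inf_eq_bot_of_coprime ?_
      obtain ⟨n, hn⟩ := P.2.exists_card_eq
      rw [hn]
      exact Nat.Coprime.pow_left n hco.symm
    rw [hbot, mem_bot, mul_inv_eq_one, mul_inv_eq_iff_eq_mul] at h1
    exact h1.symm
  rw [hP', hN, Sig.centralizer_map_mk' (p := 2) K hco P.2, ← relIndex_comap, comap_map_eq,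
    QuotientGroup.ker_mk', ← inf_relIndex_right]
  congr 1
  refine le_antisymm (fun y hy => ?_) (le_inf le_sup_left (centralizer_le_normalizer _))
  obtain ⟨c, hc, k, hk, rfl⟩ := mem_sup_of_normal_right.1 hy.1
  refine mul_mem hc (hKN k hk ?_)
  have h := mul_mem (inv_mem (centralizer_le_normalizer _ hc)) hy.2
  rwa [inv_mul_cancel_left] at h

/-- The regular rank for a normal Sylow subgroup with a quotient of prime order. -/
theorem rank_of_normal (hM : IsPModular 2 M) (P : Sylow 2 G) [(P : Subgroup G).Normal]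
    (hC : centralizer ((P : Subgroup G) : Set G) ≤ (P : Subgroup G)) {e : ℕ}
    (he : (P : Subgroup G).index = e) (hp : e.Prime) :
    blockRank 2 (principalBlock M G) = e := by
  classical
  haveI : Fact (Nat.Prime 2) := ⟨Nat.prime_two⟩
  haveI : Fact e.Prime := ⟨hp⟩
  set A := G ⧸ (P : Subgroup G)
  haveI := Fintype.ofFinite A
  have hcardA : Nat.card A = e := (Subgroup.index_eq_card _).symm.trans he
  have he2 : ¬ 2 ∣ e := he ▸ P.not_dvd_index
  have hcomm : ∀ a b : A, a * b = b * a := fun a b => by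
    haveI : IsCyclic A := isCyclic_of_prime_card hcardA
    exact mul_comm' a b
  have hregA : ∀ a : A, ¬ 2 ∣ orderOf a := fun a h =>
    he2 (hcardA ▸ h.trans (orderOf_dvd_natCard a))
  have huniq : ∀ g h : G, IsPRegular 2 g → IsPRegular 2 h → (g : A) = h → IsConj g h := by
    intro g h hg hh hgh
    have hcardG : Nat.card G = Nat.card (P : Subgroup G) * e := by rw [← he, card_mul_index]
    obtain ⟨n, hn⟩ := P.2.exists_card_eq
    have hord : ∀ x : G, IsPRegular 2 x → orderOf x ∣ e := fun x hx => by
      have h1 : orderOf x ∣ 2 ^ n * e := hn ▸ hcardG ▸ orderOf_dvd_natCard x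
      exact ((Nat.Coprime.pow_right n ((Nat.prime_two.coprime_iff_not_dvd.2 hx).symm))).dvd_of_dvd_mul_left h1
    have hne : ∀ x : G, IsPRegular 2 x → (x : A) = 1 → x = 1 := fun x hx h1 => by
      refine orderOf_eq_one_iff.1 (Nat.eq_one_of_dvd_coprimes ?_ (hord x hx)
        (hn ▸ Subgroup.orderOf_dvd_natCard _ ((QuotientGroup.eq_one_iff x).1 h1)))
      exact Nat.Coprime.pow_right n (Nat.prime_two.coprime_iff_not_dvd.2 he2).symm
    by_cases hg1 : (g : A) = 1
    · rw [hne g hg hg1, hne h hh (hgh ▸ hg1)]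
    have hog : orderOf g = e := ((Nat.dvd_prime hp).1 (hord g hg)).resolve_left fun h1 => hg1 (by
      rw [orderOf_eq_one_iff.1 h1, QuotientGroup.mk_one])
    have hoh : orderOf h = e := ((Nat.dvd_prime hp).1 (hord h hh)).resolve_left fun h1 => hg1 (by
      rw [hgh, orderOf_eq_one_iff.1 h1, QuotientGroup.mk_one])
    have hz : ∀ x : G, orderOf x = e → ∃ S : Sylow e G, (S : Subgroup G) = zpowers x := fun x hx => by
      refine ⟨(IsPGroup.of_card (n := 1) (by rw [Nat.card_zpowers, hx, pow_one]) :
        IsPGroup e (zpowers x)).toSylow ?_, rfl⟩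
      intro hd
      have h1 := (zpowers x).card_mul_index
      rw [Nat.card_zpowers, hx, hcardG, mul_comm] at h1
      have h2 : (zpowers x).index = Nat.card (P : Subgroup G) := Nat.eq_of_mul_eq_mul_right hp.pos h1
      rw [h2, hn] at hd
      exact he2 ((Nat.prime_dvd_prime_iff_eq hp Nat.prime_two).1 (hp.dvd_of_dvd_pow hd) ▸ dvd_rfl)
    obtain ⟨S, hS⟩ := hz g hog
    obtain ⟨T, hT⟩ := hz h hoh
    obtain ⟨c, hc⟩ := MulAction.exists_smul_eq G S T
    have hmem : c * g * c⁻¹ ∈ zpowers h := by
      rw [← hT, ← hc, Sylow.coe_subgroup_smul]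
      exact ⟨g, hS ▸ mem_zpowers g, rfl⟩
    obtain ⟨i, hi⟩ := mem_zpowers_iff.1 hmem
    have h1 : (h : A) ^ i = (h : A) := by
      rw [← QuotientGroup.mk_zpow, hi, QuotientGroup.mk_mul, QuotientGroup.mk_mul,
        QuotientGroup.mk_inv, hcomm (c : A), mul_inv_cancel_right, hgh]
    have h2 : (h : A) ^ (i - 1) = 1 := by rw [zpow_sub_one, h1, mul_inv_cancel]
    have h3 : orderOf (h : A) = e :=
      ((Nat.dvd_prime hp).1 (hoh ▸ orderOf_map_dvd (QuotientGroup.mk' _) h)).resolve_left
        fun h1 => hg1 (hgh.trans (orderOf_eq_one_iff.1 h1))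
    have h4 : h ^ (i - 1) = 1 := by
      rw [← orderOf_dvd_iff_zpow_eq_one, hoh, ← h3, orderOf_dvd_iff_zpow_eq_one]
      exact h2
    refine isConj_iff.2 ⟨c, ?_⟩
    rw [← hi, show i = i - 1 + 1 by ring, zpow_add_one, h4, one_mul]
  -- the functions on the quotient, seen on regular elements
  let Φ : (A → ℂ) →ₗ[ℂ] (G → ℂ) :=
    { toFun := fun f => pRegularPart 2 (f ∘ QuotientGroup.mk)
      map_add' := fun f f' => funext fun g => by
        by_cases h : IsPRegular 2 g
        · simp [pRegularPart_of_reg h]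
        · simp [pRegularPart_of_sing h]
      map_smul' := fun c f => funext fun g => by
        by_cases h : IsPRegular 2 g
        · simp [pRegularPart_of_reg h]
        · simp [pRegularPart_of_sing h] }
  have hinj : Function.Injective Φ := fun f f' h => funext fun a => by
    obtain ⟨g, hg, rfl⟩ := exists_regular_lift (p := 2) (P : Subgroup G) a (hregA a)
    have h1 := congrFun h g
    rwa [show Φ f g = pRegularPart 2 (f ∘ QuotientGroup.mk) g from rfl,
      show Φ f' g = pRegularPart 2 (f' ∘ QuotientGroup.mk) g from rfl,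
      pRegularPart_of_reg hg, pRegularPart_of_reg hg] at h1
  have hidx : ¬ 2 ∣ (P : Subgroup G).index := P.not_dvd_index
  have hspan : Submodule.span ℂ ((fun χ : IrrCharacter G => pRegularPart 2 (χ : G → ℂ)) ''
      principalBlock M G) = LinearMap.range Φ := by
    refine le_antisymm (Submodule.span_le.2 ?_) ?_
    · rintro _ ⟨χ, -, rfl⟩
      refine ⟨fun a => (χ : G → ℂ) (exists_regular_lift (p := 2) (P : Subgroup G) a (hregA a)).choose,
        funext fun g => ?_⟩
      show pRegularPart 2 _ g = pRegularPart 2 (χ : G → ℂ) g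
      by_cases hg : IsPRegular 2 g
      · rw [pRegularPart_of_reg hg, pRegularPart_of_reg hg, Function.comp_apply]
        have h := (exists_regular_lift (p := 2) (P : Subgroup G) (g : A) (hregA _)).choose_spec
        obtain ⟨c, hc⟩ := isConj_iff.1 (huniq _ g h.1 hg h.2)
        conv_rhs => rw [← hc, χ.2.isClassFunction]
      · rw [pRegularPart_of_sing hg, pRegularPart_of_sing hg]
    · rintro _ ⟨f, rfl⟩
      have hf : IsClassFunction A f := fun a b => by rw [hcomm b a, mul_inv_cancel_right]
      rw [Char.eq_sum_classInner hf, map_sum]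
      refine Submodule.sum_mem _ fun φ _ => ?_
      rw [map_smul]
      refine Submodule.smul_mem _ _ (Submodule.subset_span ⟨infl (P : Subgroup G) φ, ?_, ?_⟩)
      · refine Cfsg.Agent.S4626.result 2 M hM P (P : Subgroup G) hidx hC _ fun n hn => ?_
        rw [infl_coe, Function.comp_apply, Function.comp_apply, (QuotientGroup.eq_one_iff n).2 hn,
          QuotientGroup.mk_one]
      · show pRegularPart 2 (infl (P : Subgroup G) φ : G → ℂ) = pRegularPart 2 _
        rw [infl_coe]
  rw [blockRank, hspan, LinearMap.finrank_range_of_inj hinj, Module.finrank_pi,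
    ← Nat.card_eq_fintype_card, hcardA]

end Cfsg.Lib.Block.PrimeInertia
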