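import Cfsg.Agent.Lib.Block.PrimeInertia.Exists
import Cfsg.Agent.Lib.Block.PrimeInertia.PSLTwo
import Cfsg.Agent.Lib.Block.PrimeInertia.Solvable
import Cfsg.Agent.S4551

/-!
# The principal block for an automizer of prime order
-/

set_option autoImplicit false
set_option linter.unusedSectionVars false
set_option linter.style.haveILetI false
set_option maxHeartbeats 800000

namespace Cfsg.Lib.Block.PrimeInertia

open Cfsg Cfsg.Lib Cfsg.Lib.Block Subgroup

universe u

variable {G : Type u} [Group G] [Fintype G] {M : Ideal AlgInt}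

theorem card_eq_mul {P : Sylow 2 G} {Z Q : Subgroup G} (h : Orbit P Z Q) :
    Nat.card (P : Subgroup G) = Nat.card Z * Nat.card Q := by
  rw [← Nat.card_prod]
  refine (Nat.card_eq_of_bijective
    (fun w : Z × Q => (⟨(w.1 : G) * w.2, mul_mem (h.zle w.1.2) (h.qle w.2.2)⟩ : (P : Subgroup G)))
    ⟨fun a b hab => ?_, fun y => ?_⟩).symm
  · have e : (a.1 : G) * a.2 = b.1 * b.2 := congrArg Subtype.val hab
    have h1 : (b.1 : G)⁻¹ * a.1 = b.2 * (a.2 : G)⁻¹ := by
      rw [eq_mul_inv_iff_mul_eq, mul_assoc, e, inv_mul_cancel_left]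
    have h2 : (b.1 : G)⁻¹ * a.1 ∈ Z ⊓ Q :=
      mem_inf.2 ⟨Z.mul_mem (Z.inv_mem b.1.2) a.1.2, h1 ▸ Q.mul_mem b.2.2 (Q.inv_mem a.2.2)⟩
    rw [h.disj, mem_bot] at h2
    have h3 : (a.1 : G) = b.1 := (inv_mul_eq_one.1 h2).symm
    rw [h3] at e
    exact Prod.ext (Subtype.ext h3) (Subtype.ext (mul_left_cancel e))
  · obtain ⟨z, hz, w, hw, e⟩ := h.decomp y.2
    exact ⟨(⟨z, hz⟩, ⟨w, hw⟩), Subtype.ext e⟩

/-- The invariants of a nonsolvable core-free group. -/
theorem invariants_of_core (hM : IsPModular 2 M) (P : Sylow 2 G)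
    (hab : IsMulCommutative (P : Subgroup G))
    (hp : ((centralizer ((P : Subgroup G) : Set G)).relIndex
      (normalizer ((P : Subgroup G) : Set G))).Prime)
    (hO : oddCore G = ⊥) (hns : ¬ Group.IsSolvable G) :
    blockRank 2 (principalBlock M G) = (centralizer ((P : Subgroup G) : Set G)).relIndex
      (normalizer ((P : Subgroup G) : Set G)) ∧
      Nat.card (principalBlock M G) = Nat.card (P : Subgroup G) := by
  classical
  haveI : Fact (Nat.Prime 2) := ⟨Nat.prime_two⟩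
  obtain ⟨L, hS, hO'⟩ := exists_shape P hab hp hO hns
  haveI := hS.normal
  haveI := hS.simple
  obtain ⟨Z, hZ⟩ : ∃ Z, Z = centralizer (L : Set G) := ⟨_, rfl⟩
  rw [← hZ] at hO'
  haveI : Z.Normal := hZ ▸ inferInstance
  haveI := Fintype.ofFinite (G ⧸ Z)
  set Q := (P : Subgroup G) ⊓ L with hQ
  set f := QuotientGroup.mk' Z with hf
  have hfs : Function.Surjective f := QuotientGroup.mk'_surjective Z
  have hk := hO'.card_principal hM
  have he := hO'.relIndex_eq
  have hZp : IsPGroup 2 Z := P.2.to_le hO'.zle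
  have hl : blockRank 2 (principalBlock M G) = blockRank 2 (principalBlock M (G ⧸ Z)) :=
    Cfsg.Agent.S4571.result 2 M hM Z hZp (eq_top_iff.2 fun g _ => mem_sup_right
      (mem_centralizer_iff.2 fun z hz => (mem_center_iff.1 (hO'.central hz) g).symm))
  set P' : Sylow 2 (G ⧸ Z) := P.mapSurjective hfs with hP'
  have hP'c : (P' : Subgroup (G ⧸ Z)) = (P : Subgroup G).map f := Sylow.coe_mapSurjective hfs P
  have hmemP : ∀ y, y ∈ (P' : Subgroup (G ⧸ Z)) → ∃ w ∈ Q, f w = y := by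
    intro y hy
    rw [hP'c] at hy
    obtain ⟨x, hx, rfl⟩ := hy
    obtain ⟨z, hz, w, hw, rfl⟩ := hO'.decomp hx
    exact ⟨w, hw, by rw [map_mul, show f z = 1 from (QuotientGroup.eq_one_iff z).2 hz, one_mul]⟩
  have hinj : ∀ a ∈ Q, ∀ b ∈ Q, f a = f b → a = b := fun a ha b hb h => by
    have h1 : a⁻¹ * b ∈ Z ⊓ Q := mem_inf.2 ⟨QuotientGroup.eq.1 h, Q.mul_mem (Q.inv_mem ha) hb⟩
    rwa [hO'.disj, mem_bot, inv_mul_eq_one] at h1
  have hne : ∀ {w : G}, w ∈ Q → f w ≠ 1 → w ≠ 1 := fun {w} _ h e => h (by rw [e, map_one])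
  have hQP : ∀ w ∈ Q, f w ∈ (P' : Subgroup (G ⧸ Z)) := fun w hw =>
    hP'c ▸ mem_map_of_mem f (hO'.qle hw)
  have hnorm : ∀ y ∈ normalizer ((P' : Subgroup (G ⧸ Z)) : Set (G ⧸ Z)),
      ∃ n ∈ normalizer ((P : Subgroup G) : Set G), f n = y := by
    intro y hy
    obtain ⟨x, rfl⟩ := hfs y
    have hcomap : ((P : Subgroup G).map f).comap f = (P : Subgroup G) := by
      rw [comap_map_eq_self]
      rw [hf, QuotientGroup.ker_mk']
      exact hO'.zle
    refine ⟨x, mem_normalizer_iff.2 fun z => ?_, rfl⟩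
    have h1 := mem_normalizer_iff.1 hy (f z)
    rw [hP'c, ← map_inv, ← map_mul, ← map_mul, ← mem_comap, ← mem_comap, hcomap] at h1
    exact h1
  have hmapN : ∀ n ∈ normalizer ((P : Subgroup G) : Set G),
      f n ∈ normalizer ((P' : Subgroup (G ⧸ Z)) : Set (G ⧸ Z)) := fun n hn => by
    rw [hP'c]
    exact le_normalizer_map f (mem_map_of_mem f hn)
  have hmapC : ∀ n ∈ centralizer ((P : Subgroup G) : Set G),
      f n ∈ centralizer ((P' : Subgroup (G ⧸ Z)) : Set (G ⧸ Z)) := fun n hn => by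
    rw [hP'c]
    refine mem_centralizer_iff.2 ?_
    rintro _ ⟨z, hz, rfl⟩
    rw [← map_mul, ← map_mul, mem_centralizer_iff.1 hn z hz]
  have hO2 : Orbit P' ⊥ (P' : Subgroup (G ⧸ Z)) := by
    refine ⟨?_, bot_le, bot_le, le_rfl, bot_inf_eq _, le_sup_right,
      fun n hn w hw => (mem_normalizer_iff.1 hn w).1 hw, ?_, ?_, ?_⟩
    · refine ⟨⟨fun a b => Subtype.ext ?_⟩⟩
      obtain ⟨v, hv, hv'⟩ := hmemP a a.2
      obtain ⟨w, hw, hw'⟩ := hmemP b b.2
      show (a : G ⧸ Z) * b = b * a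
      rw [← hv', ← hw', ← map_mul, ← map_mul, comm_P hab (hO'.qle hv) (hO'.qle hw)]
    · intro a ha ha1 b hb hb1
      obtain ⟨v, hv, rfl⟩ := hmemP a ha
      obtain ⟨w, hw, rfl⟩ := hmemP b hb
      obtain ⟨n, hn, e⟩ := hO'.trans v hv (hne hv ha1) w hw (hne hw hb1)
      exact ⟨f n, hmapN n hn, by rw [← map_inv, ← map_mul, ← map_mul, e]⟩
    · intro a ha ha1 b hb e
      obtain ⟨v, hv, rfl⟩ := hmemP a ha
      obtain ⟨n, hn, rfl⟩ := hnorm b hb
      rw [← map_inv, ← map_mul, ← map_mul] at e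
      exact hmapC n (hO'.free v hv (hne hv ha1) n hn (hinj _ (hO'.inv n hn v hv) v hv e))
    · intro h
      obtain ⟨v, hv, hv1⟩ := (bot_or_exists_ne_one Q).resolve_left hO'.ne
      have h1 := hQP v hv
      rw [h, mem_bot, ← map_one f] at h1
      exact hv1 (hinj v hv 1 (one_mem Q) h1)
  have hcard' : Nat.card (P' : Subgroup (G ⧸ Z)) = Nat.card Q :=
    (Nat.card_eq_of_bijective (fun w : Q => (⟨f w, hQP w w.2⟩ : (P' : Subgroup (G ⧸ Z))))
      ⟨fun a b h => Subtype.ext (hinj a a.2 b b.2 (congrArg Subtype.val h)), fun y => by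
        obtain ⟨w, hw, e⟩ := hmemP y y.2
        exact ⟨⟨w, hw⟩, Subtype.ext e⟩⟩).symm
  have he' := hO2.relIndex_eq
  rw [hcard', ← he] at he'
  haveI := hO2.comm
  obtain ⟨hub, h3⟩ := rank_free hM P' hO2.ne he' hp hO2.free
  have hrank : blockRank 2 (principalBlock M (G ⧸ Z)) = (centralizer ((P : Subgroup G) : Set G)).relIndex
      (normalizer ((P : Subgroup G) : Set G)) := by
    rcases hS.kind with h4 | ⟨F, i, j, a, hF, hQa, ⟨φ⟩⟩
    · exact h3 (by rw [he, h4])
    refine le_antisymm hub ?_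
    rw [he, hQa]
    have ha : 2 ≤ a := by
      by_contra hlt
      have h1 : a ≤ 1 := by omega
      have h2 : 2 ^ a ≤ 2 := by simpa using Nat.pow_le_pow_right two_pos h1
      have := hp.two_le
      rw [he, hQa] at this
      omega
    set N := L.map f with hN
    haveI : N.Normal := Normal.map hS.normal f hfs
    haveI := Fintype.ofFinite N
    have hQN : (P' : Subgroup (G ⧸ Z)) ≤ N := fun y hy => by
      obtain ⟨w, hw, rfl⟩ := hmemP y hy
      exact mem_map_of_mem f hw.2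
    have hsup : N ⊔ centralizer ((P' : Subgroup (G ⧸ Z)) : Set (G ⧸ Z)) = ⊤ := by
      rw [eq_top_iff, ← map_top_of_surjective f hfs, ← hS.cover, Subgroup.map_sup]
      exact sup_le_sup_left (fun y ⟨c, hc, e⟩ => e ▸ hmapC c hc) _
    obtain ⟨hres, huniq⟩ := Cfsg.Agent.S4551.result 2 M hM N
      (fun h => P'.not_dvd_index (h.trans (index_dvd_of_le hQN))) P' hsup
    choose r hr hr' using hres
    have hkk : Nat.card (principalBlock M (G ⧸ Z)) = Nat.card (principalBlock M N) := by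
      refine Nat.card_eq_of_bijective (fun χ => ⟨r χ.1 χ.2, hr χ.1 χ.2⟩) ⟨fun χ η h => ?_, fun θ => ?_⟩
      · obtain ⟨χ₀, -, hu⟩ := huniq _ (hr χ.1 χ.2)
        refine Subtype.ext ((hu χ.1 ⟨χ.2, hr' χ.1 χ.2⟩).trans (hu η.1 ⟨η.2, fun n => ?_⟩).symm)
        rw [hr' η.1 η.2 n]
        exact congrFun (congrArg Subtype.val (congrArg Subtype.val h).symm) n
      · obtain ⟨χ₀, ⟨h1, h2⟩, -⟩ := huniq θ.1 θ.2
        exact ⟨⟨χ₀, h1⟩, Subtype.ext (Subtype.ext (funext fun n => (hr' χ₀ h1 n).symm.trans (h2 n)))⟩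
    let ψ : L →* N := (f.comp L.subtype).codRestrict N fun l => mem_map_of_mem f l.2
    have hψ : Function.Bijective ψ := by
      refine ⟨(injective_iff_map_eq_one ψ).2 fun l hl => ?_, fun y => ?_⟩
      · have h1 : (l : G) ∈ Z := (QuotientGroup.eq_one_iff (l : G)).1 (congrArg Subtype.val hl)
        refine (IsSimpleGroup.eq_bot_or_eq_top_of_normal (center L) inferInstance).elim (fun h => ?_)
          fun h => ?_
        · refine mem_bot.1 (h ▸ mem_center_iff.2 fun m => Subtype.ext ?_)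
          exact (mem_center_iff.1 (hO'.central h1) m)
        · exact absurd ⟨⟨fun x y => ((mem_center_iff.1 (h.ge (mem_top x))) y).symm⟩⟩ hS.nc
      · obtain ⟨l, hl, e⟩ := y.2
        exact ⟨⟨l, hl⟩, Subtype.ext e⟩
    haveI := Fintype.ofFinite L
    have hlow := card_le_principal hM hF ha φ
    rw [card_principal_equiv (M := M) (MulEquiv.ofBijective ψ hψ), ← hkk,
      hO2.card_principal hM, card_bot, one_mul] at hlow
    omega
  refine ⟨hl.trans hrank, ?_⟩
  have hQ1 : 1 ≤ Nat.card Q := Nat.card_pos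
  rw [hk, hl, hrank, he, card_eq_mul hO', Nat.sub_add_cancel hQ1]

end Cfsg.Lib.Block.PrimeInertia
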