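import Cfsg.Agent.Lib.Block.PrimeInertia.Basic
import Cfsg.Agent.Lib.Group.MinimalNormalFactor
import Cfsg.Agent.Lib.Local.Sylow
import Cfsg.Agent.S4593
import Cfsg.Agent.S0205

/-!
# Core-free groups with abelian Sylow two-subgroup and automizer of prime order

A nonsolvable one has a simple normal subgroup, with one orbit on the involutions of its Sylow
subgroup, and the centralizer of that simple subgroup is a central two-group.
-/

set_option autoImplicit false
set_option linter.unusedSectionVars false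
set_option linter.style.haveILetI false
set_option maxHeartbeats 800000

namespace Cfsg.Lib.Block.PrimeInertia

open Cfsg Cfsg.Lib Subgroup

universe u

variable {G : Type u} [Group G] [Finite G]

local notation "NN[" P "]" => normalizer ((P : Subgroup _) : Set _)
local notation "CC[" P "]" => centralizer ((P : Subgroup _) : Set _)

theorem comm_P {P : Sylow 2 G} (hab : IsMulCommutative (P : Subgroup G)) {x y : G}
    (hx : x ∈ (P : Subgroup G)) (hy : y ∈ (P : Subgroup G)) : x * y = y * x :=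
  congrArg Subtype.val (hab.is_comm.comm ⟨x, hx⟩ ⟨y, hy⟩)

/-- An element carrying a part of `P` into `P` agrees there with one normalizing `P`. -/
theorem exists_agree (P : Sylow 2 G) (hab : IsMulCommutative (P : Subgroup G)) {R : Subgroup G}
    (hR : R ≤ (P : Subgroup G)) {x : G} (hx : ∀ r ∈ R, x * r * x⁻¹ ∈ (P : Subgroup G)) :
    ∃ c : G, (∀ r ∈ R, c * (x * r * x⁻¹) = x * r * x⁻¹ * c) ∧
      c * x ∈ normalizer ((P : Subgroup G) : Set G) ∧ ∀ r ∈ R, c * x * r * (c * x)⁻¹ = x * r * x⁻¹ := by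
  haveI : Fact (Nat.Prime 2) := ⟨Nat.prime_two⟩
  set R' := R.map (MulAut.conj x).toMonoidHom
  set C := centralizer (R' : Set G)
  have hPC : (P : Subgroup G) ≤ C := fun y hy => mem_centralizer_iff.2 fun z hz => by
    obtain ⟨r, hr, rfl⟩ := hz
    exact comm_P hab (hx r hr) hy
  have hxPC : ((x • P : Sylow 2 G) : Subgroup G) ≤ C := by
    rw [Sylow.coe_subgroup_smul]
    rintro _ ⟨y, hy, rfl⟩
    refine mem_centralizer_iff.2 fun z hz => ?_
    obtain ⟨r, hr, rfl⟩ := hz
    show MulAut.conj x r * MulAut.conj x y = MulAut.conj x y * MulAut.conj x r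
    rw [← map_mul, comm_P hab (hR hr) hy, map_mul]
  obtain ⟨c, hc⟩ := MulAction.exists_smul_eq C ((x • P).subtype hxPC) (P.subtype hPC)
  have hc2 : (c : G) • (x • P) = P := by
    rw [Sylow.smul_subtype] at hc
    exact Sylow.subtype_injective hc
  refine ⟨c, fun r hr => (mem_centralizer_iff.1 c.2 _ ⟨r, hr, rfl⟩).symm, ?_, fun r hr => ?_⟩
  · rw [smul_smul] at hc2
    exact Sylow.smul_eq_iff_mem_normalizer.1 hc2
  · have h : (c : G) * (x * r * x⁻¹) = x * r * x⁻¹ * c :=
      (mem_centralizer_iff.1 c.2 _ ⟨r, hr, rfl⟩).symm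
    calc (c : G) * x * r * ((c : G) * x)⁻¹ = c * (x * r * x⁻¹) * (c : G)⁻¹ := by group
      _ = x * r * x⁻¹ := by rw [h, mul_inv_cancel_right]

/-- One automorphism moving `r` fixes `y`: then all of the normalizer fixes `y`. -/
theorem fix_of_moves {P : Sylow 2 G}
    (hp : ((centralizer ((P : Subgroup G) : Set G)).relIndex
      (normalizer ((P : Subgroup G) : Set G))).Prime)
    {n₀ y : G} (hn₀ : n₀ ∈ normalizer ((P : Subgroup G) : Set G))
    (hmove : n₀ ∉ centralizer ((P : Subgroup G) : Set G)) (hy : y ∈ (P : Subgroup G))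
    (hfix : n₀ * y * n₀⁻¹ = y) {n : G} (hn : n ∈ normalizer ((P : Subgroup G) : Set G)) :
    n * y * n⁻¹ = y := by
  haveI := Fintype.ofFinite G
  obtain ⟨i, hi⟩ := exists_zpow_of_prime (normalizer_le_normalizer_centralizer _) hp hn₀ hmove hn
  have h1 : n₀ ^ i ∈ centralizer ({y} : Set G) :=
    zpow_mem (mem_centralizer_singleton_iff.2 (mul_inv_eq_iff_eq_mul.1 hfix)) i
  have h2 : (n₀ ^ i)⁻¹ * n ∈ centralizer ({y} : Set G) :=
    mem_centralizer_singleton_iff.2 (mem_centralizer_iff.1 hi y hy).symm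
  have h3 := mul_mem h1 h2
  rw [mul_inv_cancel_left] at h3
  exact mul_inv_eq_iff_eq_mul.2 (mem_centralizer_singleton_iff.1 h3)

theorem not_mem_centralizer_of_moves {P : Sylow 2 G} {n r : G} (hr : r ∈ (P : Subgroup G))
    (h : n * r * n⁻¹ ≠ r) : n ∉ centralizer ((P : Subgroup G) : Set G) := fun hn =>
  h (by rw [← mem_centralizer_iff.1 hn r hr, mul_inv_cancel_right])

/-- A nonabelian simple group moves its Sylow two-subgroup. -/
theorem exists_moving {L : Type u} [Group L] [Finite L] [IsSimpleGroup L]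
    (hna : ¬ IsMulCommutative L) (S : Sylow 2 L) (hS : IsMulCommutative (S : Subgroup L)) :
    ∃ x ∈ normalizer ((S : Subgroup L) : Set L), ∃ r ∈ (S : Subgroup L), x * r * x⁻¹ ≠ r := by
  haveI : Fact (Nat.Prime 2) := ⟨Nat.prime_two⟩
  haveI := hS
  have hns : ¬ Group.IsSolvable L := fun h => hna ⟨⟨IsSimpleGroup.comm_iff_isSolvable.2 h⟩⟩
  by_contra hall
  push Not at hall
  obtain ⟨T, N, hN, hc⟩ := Fusion.hasNormalPComplement_of_normalizer_le_centralizer S
    fun x hx => mem_centralizer_iff.2 fun r hr => (mul_inv_eq_iff_eq_mul.1 (hall x hx r hr)).symm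
  rcases IsSimpleGroup.eq_bot_or_eq_top_of_normal N hN with rfl | rfl
  · have h : (T : Subgroup L) = ⊤ := isComplement'_bot_left.1 hc
    have h2 : IsPGroup 2 L := by
      have := T.2; rw [h] at this
      exact this.of_equiv topEquiv
    haveI := h2.isNilpotent
    exact hns inferInstance
  · have h : (T : Subgroup L) = ⊥ := isComplement'_top_left.1 hc
    refine hns (Cfsg.Agent.S0205.result (Nat.not_even_iff_odd.1 fun he => ?_))
    have := T.not_dvd_index
    rw [h, index_bot] at this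
    exact this (even_iff_two_dvd.1 he)

/-- The trace of `P` on a simple subgroup is a Sylow subgroup, given a conjugate of one inside `P`. -/
theorem exists_sylow_trace (P : Sylow 2 G) {N S : Subgroup G} [N.Normal]
    (hS : Group.MinFactor.Factor N S) :
    ∃ T : Sylow 2 S, (T : Subgroup S) = (P : Subgroup G).subgroupOf S := by
  haveI : Fact (Nat.Prime 2) := ⟨Nat.prime_two⟩
  obtain ⟨T₀⟩ : Nonempty (Sylow 2 S) := inferInstance
  obtain ⟨n, hn, hnT⟩ := Local.exists_conj_mem_inf P (T₀.2.map S.subtype)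
    (N := N) ((map_subtype_le _).trans hS.le)
  have hp : IsPGroup 2 ((P : Subgroup G).subgroupOf S) := P.2.comap_subtype
  let f : ↥(T₀ : Subgroup S) → ↥((P : Subgroup G).subgroupOf S) := fun t =>
    ⟨⟨n * (t : S) * n⁻¹, hS.norm n hn _ (t : S).2⟩, (hnT _ ⟨t, t.2, rfl⟩).1⟩
  have hf : Function.Injective f := fun a b h => by
    have h1 : n * ((a : S) : G) * n⁻¹ = n * ((b : S) : G) * n⁻¹ :=
      congrArg (fun t : (P : Subgroup G).subgroupOf S => ((t : S) : G)) h
    exact Subtype.ext (Subtype.ext (mul_left_cancel (mul_right_cancel h1)))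
  obtain ⟨T, hT⟩ := hp.exists_le_sylow
  refine ⟨T, (eq_of_le_of_card_ge hT ?_).symm⟩
  calc Nat.card (T : Subgroup S) = Nat.card (T₀ : Subgroup S) :=
        T.card_eq_multiplicity.trans T₀.card_eq_multiplicity.symm
    _ ≤ _ := Nat.card_le_card_of_injective f hf

theorem comm_trace {P : Sylow 2 G} (hab : IsMulCommutative (P : Subgroup G)) {S : Subgroup G}
    {T : Sylow 2 S} (hT : (T : Subgroup S) = (P : Subgroup G).subgroupOf S) :
    IsMulCommutative (T : Subgroup S) := by
  refine ⟨⟨fun a b => Subtype.ext (Subtype.ext ?_)⟩⟩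
  exact comm_P hab (mem_subgroupOf.1 (hT.le a.2)) (mem_subgroupOf.1 (hT.le b.2))

theorem exists_perfect_normal (hns : ¬ Group.IsSolvable G) :
    ∃ D : Subgroup G, D.Normal ∧ D ≠ ⊥ ∧ commutator D = ⊤ ∧
      ∀ H : Subgroup G, ∀ [H.Normal], Group.IsSolvable (G ⧸ H) → D ≤ H := by
  classical
  obtain ⟨n, -, hn⟩ := Finset.exists_min_image (Finset.range (Nat.card G + 2))
    (fun n => Nat.card (derivedSeries G n)) ⟨0, by simp⟩
  obtain ⟨k, hk, heq⟩ : ∃ k, k ≤ Nat.card G ∧
      Nat.card (derivedSeries G (k + 1)) = Nat.card (derivedSeries G k) := by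
    by_contra hno
    push Not at hno
    have hlt : ∀ k, k ≤ Nat.card G + 1 → Nat.card (derivedSeries G k) + k ≤ Nat.card G := by
      intro k
      induction k with
      | zero => intro _; simp
      | succ k ih =>
        intro hk
        have h1 := Subgroup.card_le_of_le (derivedSeries_antitone G (show k ≤ k + 1 from Nat.le_succ k))
        have h2 := hno k (by omega)
        have h3 := ih (by omega)
        omega
    have := hlt (Nat.card G + 1) le_rfl
    omega
  set D := derivedSeries G k with hD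
  have he : derivedSeries G (k + 1) = D :=
    eq_of_le_of_card_ge (derivedSeries_antitone G (Nat.le_succ k)) heq.ge
  have hstab : ∀ j, derivedSeries G (k + j) = D := fun j => by
    induction j with
    | zero => rfl
    | succ j ih => rw [← Nat.add_assoc, derivedSeries_succ, ih, hD, ← derivedSeries_succ, he]
  refine ⟨D, inferInstance, fun h => hns ((isSolvable_def _).2 ⟨k, h⟩), ?_, fun H _ hsol => ?_⟩
  · apply map_injective D.subtype_injective
    rw [← MonoidHom.range_eq_map, range_subtype, map_subtype_commutator, hD, ← derivedSeries_succ,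
      he]
  · obtain ⟨m, hm⟩ := (isSolvable_def _).1 hsol
    rw [← hstab m]
    refine (derivedSeries_antitone G (Nat.le_add_left m k)).trans ?_
    rw [← QuotientGroup.ker_mk' H, ← Subgroup.map_eq_bot_iff,
      map_derivedSeries_eq (QuotientGroup.mk'_surjective H) m, hm]

/-- A nonabelian minimal normal subgroup. -/
theorem exists_nonabelian_minimal (P : Sylow 2 G) (hab : IsMulCommutative (P : Subgroup G))
    (hO : oddCore G = ⊥) (hns : ¬ Group.IsSolvable G) :
    ∃ N : Subgroup G, N.Normal ∧ N ≠ ⊥ ∧ ¬ IsMulCommutative N ∧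
      ∀ K : Subgroup G, K.Normal → K ≤ N → K ≠ ⊥ → K = N := by
  haveI : Fact (Nat.Prime 2) := ⟨Nat.prime_two⟩
  obtain ⟨D, hDn, hD1, hperf, hDle⟩ := exists_perfect_normal hns
  haveI := hDn
  set T := Cfsg.pCore 2 G
  have hTP : T ≤ (P : Subgroup G) := Core.pCore_le_sylow P
  haveI : T.Normal := inferInstance
  have hPC : (P : Subgroup G) ≤ centralizer (T : Set G) := fun x hx =>
    mem_centralizer_iff.2 fun y hy => comm_P hab (hTP hy) hx
  have hodd : Odd (Nat.card (G ⧸ centralizer (T : Set G))) := by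
    rw [← Subgroup.index_eq_card, ← Nat.not_even_iff_odd, even_iff_two_dvd]
    exact fun h => P.not_dvd_index (h.trans (index_dvd_of_le hPC))
  have hDC : D ≤ centralizer (T : Set G) := hDle _ (Cfsg.Agent.S0205.result hodd)
  have hTD : T ⊓ D = ⊥ := by
    rw [eq_bot_iff]
    intro x hx
    obtain ⟨S, hS⟩ := Local.exists_sylow_inf P D
    haveI := comm_trace hab hS
    have h1 : (⟨x, hx.2⟩ : D) ∈ (S : Subgroup D) ⊓ commutator D ⊓ center D := by
      refine mem_inf.2 ⟨mem_inf.2 ⟨?_, hperf ▸ mem_top _⟩, ?_⟩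
      · rw [hS, mem_subgroupOf]; exact hTP hx.1
      · exact mem_center_iff.2 fun d => Subtype.ext (mem_centralizer_iff.1 (hDC d.2) x hx.1).symm
    rw [Fusion.inf_commutator_inf_center_eq_bot_sylow, mem_bot] at h1
    exact mem_bot.2 (congrArg Subtype.val h1)
  obtain ⟨N, hNn, hND, hN1, hmin⟩ := Group.MinFactor.exists_minimal_normal hDn hD1
  haveI := hNn
  refine ⟨N, hNn, hN1, fun hc => hN1 ?_, hmin⟩
  obtain ⟨SN, hSN⟩ := Local.exists_sylow_inf P N
  haveI : (SN : Subgroup N).Normal := ⟨fun a ha b => by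
    rwa [hc.is_comm.comm b a, mul_inv_cancel_right]⟩
  have h2 : (SN : Subgroup N).map N.subtype ≤ T ⊓ D := le_inf
    ((map_mono (Core.le_pCore SN.2)).trans (Core.pCore_map_le_of_isSubnormal
      (Subgroup.Normal.isSubnormal hNn))) ((map_subtype_le _).trans hND)
  rw [hTD, le_bot_iff, map_eq_bot_iff_of_injective _ N.subtype_injective] at h2
  have hco : (Nat.card N).Coprime 2 := by
    have := SN.not_dvd_index
    rw [h2, index_bot] at this
    exact ((Nat.prime_two.coprime_iff_not_dvd).2 this).symm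
  exact le_bot_iff.1 (hO ▸ Core.le_pPrimeCore hco)

variable (P : Sylow 2 G) (hab : IsMulCommutative (P : Subgroup G))
  (hp : ((centralizer ((P : Subgroup G) : Set G)).relIndex
      (normalizer ((P : Subgroup G) : Set G))).Prime)

include hab hp in
/-- Elementwise commuting subgroups, one of them moving its part of `P`. -/
theorem fix_of_commuting {L K : Subgroup G} (hLK : ∀ l ∈ L, ∀ k ∈ K, Commute l k) {x r : G}
    (hx : x ∈ L) (hxn : ∀ s ∈ (P : Subgroup G) ⊓ L, x * s * x⁻¹ ∈ (P : Subgroup G))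
    (hr : r ∈ (P : Subgroup G) ⊓ L) (hmove : x * r * x⁻¹ ≠ r) :
    ∀ n ∈ normalizer ((P : Subgroup G) : Set G), ∀ y ∈ (P : Subgroup G) ⊓ K, n * y * n⁻¹ = y := by
  set R := ((P : Subgroup G) ⊓ L) ⊔ ((P : Subgroup G) ⊓ K)
  have hfix : ∀ y ∈ (P : Subgroup G) ⊓ K, x * y * x⁻¹ = y := fun y hy => by
    rw [(hLK x hx y hy.2).eq, mul_inv_cancel_right]
  have hx' : ∀ s ∈ R, x * s * x⁻¹ ∈ (P : Subgroup G) := by
    have hle : R ≤ (P : Subgroup G).comap (MulAut.conj x).toMonoidHom :=
      sup_le hxn fun y hy => by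
        show x * y * x⁻¹ ∈ (P : Subgroup G)
        rw [hfix y hy]; exact hy.1
    exact hle
  obtain ⟨c, -, hn₀, hag⟩ := exists_agree P hab (sup_le inf_le_left inf_le_left) hx'
  intro n hn y hy
  refine fix_of_moves hp hn₀ (not_mem_centralizer_of_moves hr.1 ?_) hy.1 ?_ hn
  · rw [hag r (mem_sup_left hr)]; exact hmove
  · rw [hag y (mem_sup_right hy), hfix y hy]

include hab hp in
/-- A simple normal subgroup. -/
theorem exists_simple_normal (hO : oddCore G = ⊥) (hns : ¬ Group.IsSolvable G) :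
    ∃ L : Subgroup G, L.Normal ∧ IsSimpleGroup L ∧ ¬ IsMulCommutative L := by
  haveI : Fact (Nat.Prime 2) := ⟨Nat.prime_two⟩
  obtain ⟨N, hNn, hN1, hnc, hmin⟩ := exists_nonabelian_minimal P hab hO hns
  haveI := hNn
  obtain ⟨S, hS⟩ := Group.MinFactor.exists_factor hN1
  have hsimp : ∀ {S : Subgroup G}, Group.MinFactor.Factor N S →
      IsSimpleGroup S ∧ ¬ IsMulCommutative S := by
    intro S hS
    haveI : Nontrivial S := nontrivial_iff_ne_bot S |>.2 hS.ne
    refine ⟨⟨fun R hR => ?_⟩, fun hc => hS.ne ?_⟩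
    · refine (em (R = ⊥)).imp id fun hRb => ?_
      have hle : N ≤ normalizer ((R.map S.subtype : Subgroup G) : Set G) := by
        conv_lhs => rw [← hS.sup_centralizer hmin]
        refine sup_le (fun s hs => ?_) fun c hc => ?_
        · refine mem_normalizer_fintype ?_
          rintro _ ⟨a, ha, rfl⟩
          exact ⟨⟨s, hs⟩ * a * ⟨s, hs⟩⁻¹, hR.conj_mem a ha _, rfl⟩
        · refine mem_normalizer_fintype ?_
          rintro _ ⟨a, ha, rfl⟩
          refine ⟨a, ha, ?_⟩
          show (a : G) = c * a * c⁻¹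
          rw [← mem_centralizer_iff.1 hc.2 a a.2, mul_inv_cancel_right]
      have := hS.min (R.map S.subtype) (map_subtype_le R)
        (fun n hn r hr => (mem_normalizer_iff.1 (hle hn) r).1 hr)
        (by rwa [Ne, map_eq_bot_iff_of_injective _ S.subtype_injective])
      refine map_injective S.subtype_injective ?_
      rw [this, ← MonoidHom.range_eq_map, range_subtype]
    · have h := hS.inf_centralizer hmin hnc
      rwa [inf_eq_left.2 fun a ha => mem_centralizer_iff.2 fun b hb =>
        congrArg Subtype.val (hc.is_comm.comm (⟨b, hb⟩ : S) ⟨a, ha⟩)] at h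
  by_cases hall : ∀ g : G, S.map (MulAut.conj g).toMonoidHom = S
  · have he : S = N := by
      refine le_antisymm hS.le ?_
      conv_lhs => rw [← hS.iSup_conj hmin]
      exact iSup_le fun g => (hall g).le
    obtain ⟨h1, h2⟩ := hsimp hS
    subst he
    exact ⟨S, hNn, h1, h2⟩
  exfalso
  push Not at hall
  obtain ⟨g, hg⟩ := hall
  have hS' := hS.conj g
  have hmv : ∀ {S : Subgroup G}, Group.MinFactor.Factor N S → ∃ x ∈ S, ∃ r ∈ (P : Subgroup G) ⊓ S,
      (∀ s ∈ (P : Subgroup G) ⊓ S, x * s * x⁻¹ ∈ (P : Subgroup G)) ∧ x * r * x⁻¹ ≠ r := by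
    intro S hS
    obtain ⟨h1, h2⟩ := hsimp hS
    obtain ⟨T, hT⟩ := exists_sylow_trace P hS
    obtain ⟨x, hx, r, hr, hne⟩ := exists_moving h2 T (comm_trace hab hT)
    refine ⟨x, x.2, r, ⟨mem_subgroupOf.1 (hT.le hr), r.2⟩, fun s hs => ?_,
      fun h => hne (Subtype.ext h)⟩
    have := (mem_normalizer_iff.1 hx ⟨s, hs.2⟩).1 (hT.ge (mem_subgroupOf.2 hs.1))
    exact mem_subgroupOf.1 (hT.le this)
  obtain ⟨x, hx, r, hr, hxn, hne⟩ := hmv hS
  obtain ⟨x', hx', r', hr', hxn', hne'⟩ := hmv hS'
  have hfix := fix_of_commuting P hab hp (fun l hl k hk => hS.commute hS' (Ne.symm hg) hl hk)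
    hx hxn hr hne
  obtain ⟨c, -, hn₀, hag⟩ := exists_agree P hab inf_le_left hxn'
  exact hne' ((hag r' hr').symm.trans (hfix _ hn₀ r' hr'))

/-- The shape of the group. -/
structure Shape (P : Sylow 2 G) (L : Subgroup G) : Prop where
  normal : L.Normal
  simple : IsSimpleGroup L
  nc : ¬ IsMulCommutative L
  cent_le : centralizer (L : Set G) ≤ center G
  cent_mem : centralizer (L : Set G) ≤ (P : Subgroup G)
  cover : L ⊔ centralizer ((P : Subgroup G) : Set G) = ⊤
  kind : Nat.card ↥((P : Subgroup G) ⊓ L) = 4 ∨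
    ∃ (F : Type) (_ : Field F) (_ : Fintype F) (a : ℕ), Fintype.card F = 2 ^ a ∧
      Nat.card ↥((P : Subgroup G) ⊓ L) = 2 ^ a ∧
      Nonempty (L ≃* Matrix.ProjectiveSpecialLinearGroup (Fin 2) F)

end Cfsg.Lib.Block.PrimeInertia
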